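import Cfsg.Agent.Glauberman.Setting
import Cfsg.Agent.Solvable.Basic
import Mathlib.GroupTheory.GroupAction.OfQuotient

/-!
# Coprime actions of solvable groups on characters

If a finite solvable group `S` acts on a finite group `G` of coprime order, the invariant
irreducible characters of `G` are as many as the invariant conjugacy classes. The proof iterates
the Glauberman correspondence along a normal subgroup of `S` of prime power order.
-/

set_option autoImplicit false
set_option linter.style.haveILetI false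
set_option linter.unusedSectionVars false

namespace CfsgLib.Glauberman

open Cfsg

universe u v

/-- A class is invariant under `S`. -/
def IsInvClass (S : Type*) [Group S] {G : Type*} [Group G] [MulDistribMulAction S G]
    (K : ConjClasses G) : Prop :=
  ∀ (s : S) (g : G), ConjClasses.mk g = K → ConjClasses.mk (s • g) = K

theorem isConj_smul {S : Type*} [Group S] {G : Type*} [Group G] [MulDistribMulAction S G] (s : S)
    {a b : G} (h : IsConj a b) : IsConj (s • a) (s • b) := by
  obtain ⟨c, rfl⟩ := isConj_iff.1 h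
  exact isConj_iff.2 ⟨s • c, by simp [smul_mul', smul_inv']⟩

theorem isInvClass_mk_iff {S : Type*} [Group S] {G : Type*} [Group G] [MulDistribMulAction S G]
    (g : G) : IsInvClass S (ConjClasses.mk g) ↔ ∀ s : S, IsConj g (s • g) := by
  constructor
  · exact fun h s => (ConjClasses.mk_eq_mk_iff_isConj.1 (h s g rfl)).symm
  · intro h s a ha
    rw [ConjClasses.mk_eq_mk_iff_isConj] at ha ⊢
    exact (isConj_smul s ha).trans (h s).symm

/-- A nontrivial finite solvable group has a nontrivial normal subgroup of prime power order. -/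
theorem exists_normal_pGroup {S : Type*} [Group S] [Finite S] [Group.IsSolvable S]
    (h : Nat.card S ≠ 1) :
    ∃ (p : ℕ) (T : Subgroup S), p.Prime ∧ T.Normal ∧ T ≠ ⊥ ∧ IsPGroup p T := by
  haveI : Nontrivial S := by
    by_contra hn
    rw [not_nontrivial_iff_subsingleton] at hn
    exact h Nat.card_unique
  obtain ⟨N, hN, hne, hmin⟩ := Solvable.exists_minimal_normal (G := S)
  haveI := hN
  obtain ⟨p, hp, hP⟩ := Solvable.exists_isPGroup_of_minimal_normal hne hmin
  exact ⟨p, N, hp, hN, hne, hP⟩

theorem prime_not_dvd_of_coprime {S : Type*} [Group S] [Finite S] {p : ℕ} (hp : p.Prime)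
    {T : Subgroup S} (hne : T ≠ ⊥) (hT : IsPGroup p T) {n : ℕ}
    (hcop : n.Coprime (Nat.card S)) : ¬ p ∣ n := by
  intro hd
  haveI : Fact p.Prime := ⟨hp⟩
  obtain ⟨k, hk⟩ := IsPGroup.iff_card.1 hT
  have hk0 : k ≠ 0 := fun h0 => hne (T.card_eq_one.1 (by rw [hk, h0, pow_zero]))
  have hpS : p ∣ Nat.card S := (hk ▸ dvd_pow_self p hk0).trans T.card_subgroup_dvd_card
  exact hp.not_dvd_one (hcop ▸ Nat.dvd_gcd hd hpS)

theorem mem_fixedPoints_subgroup {S : Type*} [Group S] {G : Type*} [Group G]
    [MulDistribMulAction S G] (g : G) :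
    g ∈ FixedPoints.subgroup S G ↔ ∀ s : S, s • g = g := Iff.rfl

theorem card_quotient_lt {S : Type*} [Group S] [Finite S] (T : Subgroup S) [T.Normal]
    (h : T ≠ ⊥) : Nat.card (S ⧸ T) < Nat.card S := by
  have h1 := T.card_eq_card_quotient_mul_card_subgroup
  have h2 : 1 < Nat.card T := T.one_lt_card_iff_ne_bot.2 h
  have h3 : 0 < Nat.card (S ⧸ T) := Nat.card_pos
  nlinarith

section Step

variable {S : Type*} [Group S] [Finite S] {G : Type*} [Group G] [Fintype G]
  [MulDistribMulAction S G] {p : ℕ} [Fact p.Prime] (T : Subgroup S) [T.Normal]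
  (hP : IsPGroup p T) (hnd : ¬ p ∣ Nat.card G)

/-- The action of an element of `S` on the fixed points of a normal subgroup. -/
noncomputable def fixedEquiv (s : S) :
    FixedPoints.subgroup T G ≃* FixedPoints.subgroup T G :=
  MulDistribMulAction.toMulEquiv (FixedPoints.subgroup T G) (s : S ⧸ T)

theorem fixedEquiv_coe (s : S) (c : FixedPoints.subgroup T G) :
    (fixedEquiv T s c : G) = s • (c : G) := rfl

theorem rel_smul [Fintype (FixedPoints.subgroup T G)] {χ : IrrCharacter G}
    (hχ : IsInv S (χ : G → ℂ)) {β : IrrCharacter (FixedPoints.subgroup T G)} (s : S)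
    (h : Rel p (FixedPoints.subgroup T G) χ β) :
    Rel p (FixedPoints.subgroup T G) χ (irrCongr (fixedEquiv T s) β) := by
  obtain ⟨m, hm, hd⟩ := h
  refine ⟨m, ?_, hd⟩
  rw [← hm, ← classInner_comp (fixedEquiv T s)
    (fun c : FixedPoints.subgroup T G => (χ : G → ℂ) c) (β : FixedPoints.subgroup T G → ℂ)]
  congr 1
  funext c
  rw [fixedEquiv_coe, hχ s]

theorem isInv_subgroup {χ : G → ℂ} (hχ : IsInv S χ) : IsInv T χ := fun t g => hχ t g

include hP hnd in
/-- A correspondent of an invariant character of the fixed points is invariant. -/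
theorem isInv_of_rel [Fintype (FixedPoints.subgroup T G)] {χ : IrrCharacter G}
    (hχ : IsInv T (χ : G → ℂ)) {β : IrrCharacter (FixedPoints.subgroup T G)}
    (hβ : IsInv (S ⧸ T) (β : FixedPoints.subgroup T G → ℂ))
    (hr : Rel p (FixedPoints.subgroup T G) χ β) : IsInv S (χ : G → ℂ) := by
  have hC := mem_fixedPoints_subgroup (S := T) (G := G)
  intro s g
  -- the conjugate of `χ` has the same correspondent
  let e : G ≃* G := MulDistribMulAction.toMulEquiv G s
  have hT : IsInv T (irrCongr e χ : G → ℂ) := by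
    intro t x
    rw [irrCongr_apply, irrCongr_apply]
    show (χ : G → ℂ) (s • (t : S) • x) = (χ : G → ℂ) (s • x)
    have hmem : s * (t : S) * s⁻¹ ∈ T := (inferInstance : T.Normal).conj_mem _ t.2 s
    have : s • (t : S) • x = (s * (t : S) * s⁻¹) • (s • x) := by
      rw [smul_smul, smul_smul, inv_mul_cancel_right]
    rw [this]
    exact hχ ⟨_, hmem⟩ _
  have hrel : Rel p (FixedPoints.subgroup T G) (irrCongr e χ) β := by
    obtain ⟨m, hm, hd⟩ := hr
    refine ⟨m, ?_, hd⟩
    rw [← hm, ← classInner_comp (fixedEquiv T s) (fun c : (FixedPoints.subgroup T G) => (χ : G → ℂ) c) (β : FixedPoints.subgroup T G → ℂ)]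
    congr 1
    funext c
    exact (hβ (s : S ⧸ T) c).symm
  exact congrFun (congrArg Subtype.val
    (rel_left_unique hP hnd (FixedPoints.subgroup T G) hC hT hχ hrel hr)) g

include hP hnd in
/-- Invariant characters of `G` and of the fixed points of a normal `p`-subgroup of `S`. -/
theorem card_inv_step [Fintype (FixedPoints.subgroup T G)] :
    Nat.card {χ : IrrCharacter G // IsInv S (χ : G → ℂ)} =
      Nat.card {β : IrrCharacter (FixedPoints.subgroup T G) //
        IsInv (S ⧸ T) (β : FixedPoints.subgroup T G → ℂ)} := by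
  set C := FixedPoints.subgroup T G
  have hC := mem_fixedPoints_subgroup (S := T) (G := G)
  have hβ : ∀ χ : {χ : IrrCharacter G // IsInv S (χ : G → ℂ)}, ∃! β : IrrCharacter C,
      Rel p C χ.1 β := fun χ => existsUnique_rel hP hnd C hC (isInv_subgroup T χ.2)
  choose f hf hfu using hβ
  have hfinv : ∀ χ, IsInv (S ⧸ T) (f χ : C → ℂ) := by
    intro χ s c
    induction s using QuotientGroup.induction_on with
    | H s =>
      have := hfu χ _ (rel_smul T χ.2 s (hf χ))
      exact congrFun (congrArg Subtype.val this) c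
  refine Nat.card_eq_of_bijective (fun χ => ⟨f χ, hfinv χ⟩) ⟨fun χ χ' h => ?_, fun β => ?_⟩
  · have h' : f χ = f χ' := congrArg Subtype.val h
    exact Subtype.ext (rel_left_unique hP hnd C hC (isInv_subgroup T χ.2) (isInv_subgroup T χ'.2)
      (hf χ) (h' ▸ hf χ'))
  · obtain ⟨χ, hχ, hr⟩ := exists_rel_left hP hnd C hC β.1
    have hinv : IsInv S (χ : G → ℂ) := isInv_of_rel T hP hnd hχ β.2 hr
    refine ⟨⟨χ, hinv⟩, Subtype.ext (hfu ⟨χ, hinv⟩ β.1 hr).symm⟩

include hP hnd in
/-- Invariant classes of `G` and of the fixed points of a normal `p`-subgroup of `S`. -/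
theorem card_invClass_step :
    Nat.card {K : ConjClasses (FixedPoints.subgroup T G) // IsInvClass (S ⧸ T) K} =
      Nat.card {K : ConjClasses G // IsInvClass S K} := by
  set C := FixedPoints.subgroup T G
  have hC := mem_fixedPoints_subgroup (S := T) (G := G)
  have hmap : ∀ c : C, IsInvClass (S ⧸ T) (ConjClasses.mk c) ↔
      IsInvClass S (ConjClasses.mk (c : G)) := by
    intro c
    rw [isInvClass_mk_iff, isInvClass_mk_iff]
    constructor
    · intro h s
      exact C.subtype.map_isConj (h (s : S ⧸ T))
    · intro h s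
      induction s using QuotientGroup.induction_on with
      | H s => exact isConj_fixed hP hnd C hC (h s)
  let F : ConjClasses C → ConjClasses G := ConjClasses.map C.subtype
  have hF : ∀ c : C, F (ConjClasses.mk c) = ConjClasses.mk (c : G) := fun c => rfl
  have hFinv : ∀ K : {K : ConjClasses C // IsInvClass (S ⧸ T) K}, IsInvClass S (F K.1) := by
    intro K
    obtain ⟨c, hc⟩ := ConjClasses.mk_surjective K.1
    rw [← hc, hF]
    exact (hmap c).1 (hc ▸ K.2)
  refine Nat.card_eq_of_bijective (fun K => ⟨F K.1, hFinv K⟩) ⟨fun K K' h => ?_, fun K => ?_⟩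
  · obtain ⟨c, hc⟩ := ConjClasses.mk_surjective K.1
    obtain ⟨c', hc'⟩ := ConjClasses.mk_surjective K'.1
    have h' : F K.1 = F K'.1 := congrArg Subtype.val h
    rw [← hc, ← hc', hF, hF, ConjClasses.mk_eq_mk_iff_isConj] at h'
    exact Subtype.ext (hc ▸ hc' ▸ ConjClasses.mk_eq_mk_iff_isConj.2
      (isConj_fixed hP hnd C hC h'))
  · obtain ⟨g, hg⟩ := ConjClasses.mk_surjective K.1
    have hK : IsInvClass S (ConjClasses.mk g) := hg ▸ K.2
    obtain ⟨c, hc⟩ := exists_fixed_isConj hP hnd C hC
      fun t : T => (isInvClass_mk_iff g).1 hK t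
    have hgc : ConjClasses.mk (c : G) = ConjClasses.mk g :=
      (ConjClasses.mk_eq_mk_iff_isConj.2 hc).symm
    exact ⟨⟨ConjClasses.mk c, (hmap c).2 (hgc ▸ hK)⟩, Subtype.ext (by
      show F (ConjClasses.mk c) = K.1
      rw [hF, hgc, hg])⟩

end Step

/-- Coprime solvable action: invariant irreducible characters are as many as invariant classes. -/
theorem card_inv_eq (n : ℕ) : ∀ (S : Type u) [Group S] [Finite S] [Group.IsSolvable S]
    (G : Type v) [Group G] [Fintype G] [MulDistribMulAction S G], Nat.card S = n →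
    (Nat.card G).Coprime (Nat.card S) →
    Nat.card {χ : IrrCharacter G // IsInv S (χ : G → ℂ)} =
      Nat.card {K : ConjClasses G // IsInvClass S K} := by
  induction n using Nat.strong_induction_on with
  | _ n ih =>
    intro S _ _ _ G _ _ _ hn hcop
    by_cases h1 : Nat.card S = 1
    · haveI := (Nat.card_eq_one_iff_unique.1 h1).1
      have h0 : ∀ (s : S) (g : G), s • g = g := fun s g => by
        rw [Subsingleton.elim s 1, one_smul]
      have e1 : ∀ χ : IrrCharacter G, IsInv S (χ : G → ℂ) :=
        fun χ s g => congrArg (χ : G → ℂ) (h0 s g)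
      have e2 : ∀ K : ConjClasses G, IsInvClass S K := fun K s g hg => by rw [h0]; exact hg
      rw [Nat.card_congr (Equiv.subtypeUnivEquiv e1), Nat.card_congr (Equiv.subtypeUnivEquiv e2),
        Characters.card_irrCharacter]
    · obtain ⟨p, T, hp, hTn, hTne, hTp⟩ := exists_normal_pGroup h1
      haveI := hTn
      haveI : Fact p.Prime := ⟨hp⟩
      have hnd := prime_not_dvd_of_coprime hp hTne hTp hcop
      haveI : Fintype (FixedPoints.subgroup T G) := Fintype.ofFinite _
      rw [card_inv_step T hTp hnd, ← card_invClass_step T hTp hnd]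
      exact ih _ (hn ▸ card_quotient_lt T hTne) _ _ rfl
        ((hcop.coprime_dvd_left (Subgroup.card_subgroup_dvd_card _)).coprime_dvd_right
          (Subgroup.card_quotient_dvd_card T))

end CfsgLib.Glauberman
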