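import Cfsg.Agent.Glauberman.Correspondence

/-!
# Actions by conjugation inside an ambient group

Transport of irreducible characters along isomorphisms, and the action of a subgroup `S` on a
subgroup `G` normalised by it.
-/

set_option autoImplicit false
set_option linter.style.haveILetI false

namespace CfsgLib.Glauberman

open Cfsg

/-- Irreducible characters correspond under an isomorphism. -/
noncomputable def irrCongr {H K : Type*} [Group H] [Group K] (e : H ≃* K) :
    IrrCharacter K ≃ IrrCharacter H where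
  toFun χ := ⟨fun h => (χ : K → ℂ) (e h), Characters.isIrr_comp e.toMonoidHom e.surjective χ.2⟩
  invFun χ := ⟨fun k => (χ : H → ℂ) (e.symm k),
    Characters.isIrr_comp e.symm.toMonoidHom e.symm.surjective χ.2⟩
  left_inv χ := Subtype.ext (funext fun k => congrArg (χ : K → ℂ) (e.apply_symm_apply k))
  right_inv χ := Subtype.ext (funext fun k => congrArg (χ : H → ℂ) (e.symm_apply_apply k))

theorem irrCongr_apply {H K : Type*} [Group H] [Group K] (e : H ≃* K) (χ : IrrCharacter K)
    (h : H) : (irrCongr e χ : H → ℂ) h = (χ : K → ℂ) (e h) := rfl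

theorem classInner_comp {H K : Type*} [Group H] [Group K] [Fintype H] [Fintype K] (e : H ≃* K)
    (φ ψ : K → ℂ) : Cfsg.classInner (fun h => φ (e h)) (fun h => ψ (e h)) =
      Cfsg.classInner φ ψ := by
  unfold Cfsg.classInner
  rw [Nat.card_congr e.toEquiv]
  congr 1
  exact Fintype.sum_equiv e.toEquiv _ _ fun _ => rfl

/-- The conjugation action of `S` on a subgroup normalised by it. -/
@[reducible] def conjAction {Γ : Type*} [Group Γ] (G S : Subgroup Γ)
    (hnorm : ∀ s ∈ S, ∀ g ∈ G, s * g * s⁻¹ ∈ G) : MulDistribMulAction S G where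
  smul s g := ⟨(s : Γ) * g * (s : Γ)⁻¹, hnorm s s.2 g g.2⟩
  one_smul g := Subtype.ext (show (1 : Γ) * g * (1 : Γ)⁻¹ = g by group)
  mul_smul s t g := Subtype.ext
    (show ((s : Γ) * t) * g * ((s : Γ) * t)⁻¹ = s * ((t : Γ) * g * (t : Γ)⁻¹) * (s : Γ)⁻¹ by group)
  smul_one s := Subtype.ext (show (s : Γ) * 1 * (s : Γ)⁻¹ = 1 by group)
  smul_mul s g h := Subtype.ext
    (show (s : Γ) * ((g : Γ) * h) * (s : Γ)⁻¹ =
      ((s : Γ) * g * (s : Γ)⁻¹) * ((s : Γ) * h * (s : Γ)⁻¹) by group)

section

variable {Γ : Type*} [Group Γ] (G S : Subgroup Γ) (hnorm : ∀ s ∈ S, ∀ g ∈ G, s * g * s⁻¹ ∈ G)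

/-- Invariance under the conjugation action, written in the ambient group. -/
theorem isInv_conjAction_iff {α : Type*} (f : G → α) :
    (letI := conjAction G S hnorm; IsInv S f) ↔
      ∀ s ∈ S, ∀ g g' : G, (g' : Γ) = s * g * s⁻¹ → f g' = f g := by
  letI := conjAction G S hnorm
  constructor
  · intro h s hs g g' hg
    rw [show g' = (⟨s, hs⟩ : S) • g from Subtype.ext hg]
    exact h _ _
  · exact fun h s g => h s s.2 g _ rfl

/-- The fixed points of the conjugation action. -/
theorem mem_centralizer_iff_fixed (C : Subgroup Γ) (hC : C = G ⊓ Subgroup.centralizer (S : Set Γ))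
    (g : G) : (letI := conjAction G S hnorm; g ∈ C.subgroupOf G ↔ ∀ s : S, s • g = g) := by
  letI := conjAction G S hnorm
  rw [Subgroup.mem_subgroupOf, hC, Subgroup.mem_inf, and_iff_right g.2,
    Subgroup.mem_centralizer_iff]
  constructor
  · intro h s
    exact Subtype.ext (show (s : Γ) * g * (s : Γ)⁻¹ = g by rw [h s s.2, mul_inv_cancel_right])
  · intro h s hs
    have := congrArg Subtype.val (h ⟨s, hs⟩)
    calc s * g = (s * g * s⁻¹) * s := by group
      _ = g * s := by rw [show s * g * s⁻¹ = (g : Γ) from this]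

end

end CfsgLib.Glauberman
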