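import Cfsg.Agent.Glauberman.Brauer
import Cfsg.Agent.Characters.Classes

/-!
# The Glauberman correspondence for a p-group

Let a finite `p`-group `P` act on a finite group `G` of order prime to `p`, with fixed point
subgroup `C`. For each invariant irreducible character `χ` of `G` exactly one irreducible
character of `C` occurs in the restriction of `χ` with multiplicity prime to `p`; that
multiplicity is `±1` modulo `p`; and this gives a bijection.
-/

set_option autoImplicit false
set_option linter.style.haveILetI false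
set_option linter.unusedSectionVars false

namespace CfsgLib.Glauberman

open Cfsg CfsgLib.Blocks
open scoped ComplexConjugate

/-- `β` occurs in the restriction of `χ` with multiplicity prime to `p`. -/
def Rel (p : ℕ) {G : Type*} [Group G] (C : Subgroup G) [Fintype C] (χ : IrrCharacter G)
    (β : IrrCharacter C) : Prop :=
  ∃ m : ℕ, Cfsg.classInner (fun c : C => (χ : G → ℂ) c) (β : C → ℂ) = (m : ℂ) ∧ ¬ p ∣ m

section Idempotent

variable {p : ℕ} {M : Ideal AlgInt} [M.IsPrime] (hM : Cfsg.IsPModular p M)
  {H : Type*} [Group H] [Fintype H] (hH : ¬ p ∣ Nat.card H)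

include hM hH in
theorem isBlockUnion_singleton (χ : IrrCharacter H) :
    IsBlockUnion M ({χ} : Set (IrrCharacter H)) := by
  refine isBlockUnion_of_memLocalRing fun g => ?_
  show _ ∈ localRing M
  rw [Cfsg.blockCoeff, finsum_mem_singleton]
  refine Subring.mul_mem _ (memLocalRing_natCast_inv hM hH) (memLocalRing_of_isIntegral ?_)
  have hχ := Characters.isCharacter_of_isIrr χ.2
  refine IsIntegral.mul (Characters.character_isIntegral hχ 1) ?_
  rw [← Characters.character_inv hχ]
  exact Characters.character_isIntegral hχ _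

/-- The primitive central idempotent of `χ` over the residue field. -/
noncomputable def idem (χ : IrrCharacter H) : Ctr (Res M) H :=
  idemBar M {χ} (isBlockUnion_singleton hM hH χ)

theorem omegaBar_idem (χ ψ : IrrCharacter H) [Decidable (ψ = χ)] :
    omegaBar M ψ (idem hM hH χ) = if ψ = χ then 1 else 0 := by
  classical
  rw [idem, omegaBar_idemBar]
  simp [Set.mem_singleton_iff]

theorem idem_ortho {χ ψ : IrrCharacter H} (h : χ ≠ ψ) : idem hM hH χ * idem hM hH ψ = 0 :=
  idemBar_mul_of_disjoint _ _ fun _φ hφ hφ' =>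
    h ((Set.mem_singleton_iff.1 hφ).symm.trans (Set.mem_singleton_iff.1 hφ'))

theorem idem_sq (χ : IrrCharacter H) : idem hM hH χ * idem hM hH χ = idem hM hH χ :=
  idemBar_mul_self _ _

include hM hH in
theorem omegaBar_injective :
    Function.Injective (omegaBar (G := H) M) := by
  classical
  intro χ ψ h
  by_contra hne
  have := DFunLike.congr_fun h (idem hM hH χ)
  rw [omegaBar_idem hM hH, omegaBar_idem hM hH, if_pos rfl, if_neg (Ne.symm hne)] at this
  exact one_ne_zero this

include hM hH in
theorem ctr_ext_omegaBar {a b : Ctr (Res M) H} (h : ∀ χ, omegaBar M χ a = omegaBar M χ b) :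
    a = b := by
  classical
  obtain ⟨x, rfl⟩ := redCtr_surjective a
  obtain ⟨y, rfl⟩ := redCtr_surjective b
  have h1 : ∀ z : Ctr (localRing M) H, redCtr M z =
      ∑ χ : IrrCharacter H, scalar (omegaBar M χ (redCtr M z)) * idem hM hH χ := by
    intro z
    have : z = ∑ χ : IrrCharacter H, scalar (omegaO M χ z) *
        setIdemO M {χ} (memLocalRing_blockCoeff (isBlockUnion_singleton hM hH χ)) := by
      refine ctr_ext_omegaO fun ψ => ?_
      rw [map_sum, Finset.sum_eq_single ψ]
      · rw [map_mul, omegaO_scalar, omegaO_setIdemO, if_pos (Set.mem_singleton _), mul_one]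
      · intro χ _ hne
        rw [map_mul, omegaO_setIdemO, if_neg (fun hh => hne (Set.mem_singleton_iff.1 hh).symm),
          mul_zero]
      · simp
    conv_lhs => rw [this]
    simp only [map_sum, map_mul, omegaBar_redCtr, idem, idemBar]
    simp only [redCtr, mapCtr_scalar]
  rw [h1 x, h1 y]
  exact Finset.sum_congr rfl fun χ _ => by rw [h χ]

theorem mul_idem (χ : IrrCharacter H) (z : Ctr (Res M) H) :
    z * idem hM hH χ = scalar (omegaBar M χ z) * idem hM hH χ := by
  classical
  refine ctr_ext_omegaBar hM hH fun ψ => ?_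
  rw [map_mul, map_mul, omegaBar_scalar, omegaBar_idem hM hH]
  split_ifs with h
  · rw [h]
  · simp

theorem sum_idem : ∑ χ : IrrCharacter H, idem hM hH χ = 1 := by
  classical
  refine ctr_ext_omegaBar hM hH fun ψ => ?_
  simp [omegaBar_idem hM hH]

include hM hH in
theorem degree_red_ne_zero (χ : IrrCharacter H) (n : ℕ) (hn : (χ : H → ℂ) 1 = n) :
    (n : Res M) ≠ 0 := by
  rw [ne_eq, red_natCast_eq_zero_iff hM]
  obtain ⟨m, ρ, hρ, h⟩ := χ.2
  rw [← h, Representation.char_one, Nat.cast_inj] at hn
  exact fun hd => hH (hd.trans (hn ▸ Characters.finrank_dvd_card ρ))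

/-- The reduced central character, computed from the values of the character. -/
theorem omegaBar_eq_sum (χ : IrrCharacter H) (n : ℕ) (hn : (χ : H → ℂ) 1 = n)
    (z : Ctr (Res M) H) :
    (n : Res M) * omegaBar M χ z = ∑ g : H, (z : MonoidAlgebra (Res M) H).coeff g *
      red M ⟨(χ : H → ℂ) g, memLocalRing_of_isIntegral
        (Characters.character_isIntegral (Characters.isCharacter_of_isIrr χ.2) g)⟩ := by
  obtain ⟨a, rfl⟩ := redCtr_surjective z
  set v : H → localRing M := fun g => ⟨(χ : H → ℂ) g, memLocalRing_of_isIntegral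
    (Characters.character_isIntegral (Characters.isCharacter_of_isIrr χ.2) g)⟩
  have h : (n : localRing M) * omegaO M χ a =
      ∑ g : H, (a : MonoidAlgebra (localRing M) H).coeff g * v g := by
    refine Subtype.ext ?_
    push_cast
    rw [coe_omegaO, omega_apply, ← hn, mul_div_cancel₀ _ (Characters.irr_one_ne_zero χ.2)]
    simp [toC, v]
  rw [omegaBar_redCtr, ← map_natCast (red M), ← map_mul, h, map_sum]
  exact Finset.sum_congr rfl fun g _ => by rw [map_mul]; simp [redCtr, v]

end Idempotent

section Main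

variable {P : Type*} [Group P] [Finite P] {G : Type*} [Group G] [Fintype G]
  [MulDistribMulAction P G] {p : ℕ} [Fact p.Prime]
  (hP : IsPGroup p P) (hcop : ¬ p ∣ Nat.card G)
  (C : Subgroup G) [Fintype C] (hC : ∀ g, g ∈ C ↔ ∀ s : P, s • g = g)
  {M : Ideal AlgInt} [M.IsPrime] (hM : Cfsg.IsPModular p M)

/-- The automorphism of `G` attached to `s`. -/
def autHom (s : P) : G →* G := MulDistribMulAction.toMonoidHom G s

/-- The twist of a character by an element of `P`. -/
noncomputable def twist (s : P) (χ : IrrCharacter G) : IrrCharacter G :=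
  ⟨fun g => (χ : G → ℂ) (s⁻¹ • g), Characters.isIrr_comp (autHom (G := G) s⁻¹)
    (fun g => ⟨s • g, by simp [autHom]⟩) χ.2⟩

theorem twist_apply (s : P) (χ : IrrCharacter G) (g : G) :
    (twist s χ : G → ℂ) g = (χ : G → ℂ) (s⁻¹ • g) := rfl

/-- The action of `P` on irreducible characters. -/
@[reducible] noncomputable def irrAction (P : Type*) [Group P] [Finite P] (G : Type*) [Group G] [Fintype G]
    [MulDistribMulAction P G] : MulAction P (IrrCharacter G) where
  smul := twist
  one_smul χ := Subtype.ext (funext fun g => by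
    show (twist (1 : P) χ : G → ℂ) g = _
    rw [twist_apply, inv_one, one_smul])
  mul_smul s t χ := Subtype.ext (funext fun g => by
    show (twist (s * t) χ : G → ℂ) g = (twist s (twist t χ) : G → ℂ) g
    rw [twist_apply, twist_apply, twist_apply, mul_inv_rev, mul_smul])

include hC in
theorem twist_apply_fixed (s : P) (χ : IrrCharacter G) (c : C) :
    (twist s χ : G → ℂ) c = (χ : G → ℂ) c := by
  rw [twist_apply, (hC _).1 c.2]

theorem isInv_iff_twist (χ : IrrCharacter G) :
    IsInv P (χ : G → ℂ) ↔ ∀ s : P, twist s χ = χ := by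
  constructor
  · exact fun h s => Subtype.ext (funext fun g => h s⁻¹ g)
  · intro h s g
    have := congrFun (congrArg Subtype.val (h s⁻¹)) g
    simpa [twist_apply] using this

theorem isInvCtr_idem {χ : IrrCharacter G} (hχ : IsInv P (χ : G → ℂ)) :
    IsInvCtr P (idem hM hcop χ) := fun s g => by
  simp only [idem, coeff_idemBar]
  congr 2
  simp [Cfsg.blockCoeff, hχ s g]

include hC in
theorem red_apply_fixed (s : P) (χ : IrrCharacter G) (c : C) :
    (idem hM hcop (twist s χ) : MonoidAlgebra (Res M) G).coeff c =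
      (idem hM hcop χ : MonoidAlgebra (Res M) G).coeff c := by
  simp only [idem, coeff_idemBar]
  congr 2
  simp [Cfsg.blockCoeff, twist_apply_fixed C hC,
    twist_apply s χ (1 : G), smul_one]

include hC hP in
open Classical in
theorem sum_br_idem : ∑ χ : {χ : IrrCharacter G // IsInv P (χ : G → ℂ)},
    br (Res M) C (idem hM hcop χ.1) = 1 := by
  haveI := charP_res hM
  letI := irrAction P G
  rw [← br_one (R := Res M) (C := C), ← sum_idem hM hcop, br_sum]
  refine ctr_ext fun c => ?_
  simp only [AddSubmonoidClass.coe_finsetSum, MonoidAlgebra.coeff_sum, Finset.sum_apply', coeff_br]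
  rw [sum_eq_sum_fixed hP (fun χ : IrrCharacter G => IsInv P (χ : G → ℂ)) isInv_iff_twist
    (fun χ : IrrCharacter G => (idem hM hcop χ : MonoidAlgebra (Res M) G).coeff c)
    fun s χ => red_apply_fixed hcop C hC hM s χ c]

include hC hP in
/-- The reduced central character of an invariant character only sees fixed points. -/
theorem omegaBar_eq_of_br_eq {χ : IrrCharacter G} (hχ : IsInv P (χ : G → ℂ))
    (hcop : ¬ p ∣ Nat.card G) (hM : Cfsg.IsPModular p M) {a b : Ctr (Res M) G}
    (ha : IsInvCtr P a) (hb : IsInvCtr P b) (h : br (Res M) C a = br (Res M) C b) :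
    omegaBar M χ a = omegaBar M χ b := by
  classical
  haveI := charP_res hM
  obtain ⟨n, -, hn⟩ := Characters.exists_degree_pos χ.2
  refine mul_left_cancel₀ (degree_red_ne_zero hM hcop χ n hn) ?_
  rw [omegaBar_eq_sum χ n hn, omegaBar_eq_sum χ n hn, sum_eq_sum_fixed hP (· ∈ C) hC,
    sum_eq_sum_fixed hP (· ∈ C) hC]
  · refine Finset.sum_congr rfl fun c _ => ?_
    congr 1
    have := congrArg (fun z : Ctr (Res M) C => (z : MonoidAlgebra (Res M) C).coeff ⟨c.1, c.2⟩) h
    simpa using this
  all_goals
    intro s g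
    congr 1 <;>
      first
        | exact ha s g
        | exact hb s g
        | exact congrArg (red M) (Subtype.ext (hχ s g))

theorem isInvCtr_zero : IsInvCtr P (0 : Ctr (Res M) G) := fun s g => by simp

include hC hP hcop in
theorem br_surjective (_hM : Cfsg.IsPModular p M) (y : Ctr (Res M) C) :
    ∃ z : Ctr (Res M) G, IsInvCtr P z ∧ br (Res M) C z = y := by
  classical
  let f : G → Res M := fun g =>
    if h : ∃ c : C, IsConj g (c : G) then (y : MonoidAlgebra (Res M) C).coeff h.choose else 0
  have hf : ∀ g g' : G, (∀ c : C, IsConj g (c : G) ↔ IsConj g' (c : G)) → f g = f g' := by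
    intro g g' h
    by_cases hg : ∃ c : C, IsConj g (c : G)
    · have hg' : ∃ c : C, IsConj g' (c : G) := hg.imp fun c => (h c).1
      simp only [f, dif_pos hg, dif_pos hg']
      exact coeff_eq_of_isConj y.2 (isConj_fixed hP hcop C hC
        (((h _).1 hg.choose_spec).symm.trans hg'.choose_spec))
    · simp only [f, dif_neg hg]
      rw [dif_neg]
      exact fun hg' => hg (hg'.imp fun c => (h c).2)
  refine ⟨⟨ofFun f, mem_ctr_iff.2 fun g x => ?_⟩, fun s g => ?_, ctr_ext fun c => ?_⟩
  · simp only [coeff_ofFun]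
    exact hf _ _ fun c =>
      ⟨fun h => (isConj_iff.2 ⟨x, rfl⟩).trans h, fun h => (isConj_iff.2 ⟨x, rfl⟩).symm.trans h⟩
  · simp only [coeff_ofFun]
    have hconj : ∀ (t : P) (a b : G), IsConj a b → IsConj (t • a) (t • b) := by
      intro t a b hab
      obtain ⟨x, rfl⟩ := isConj_iff.1 hab
      exact isConj_iff.2 ⟨t • x, by simp [smul_mul', smul_inv']⟩
    refine hf _ _ fun c => ⟨fun h => ?_, fun h => ?_⟩
    · have := hconj s⁻¹ _ _ h
      rwa [inv_smul_smul, (hC _).1 c.2] at this
    · have := hconj s _ _ h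
      rwa [(hC _).1 c.2] at this
  · simp only [coeff_br, coeff_ofFun]
    have hc : ∃ d : C, IsConj (c : G) (d : G) := ⟨c, IsConj.refl _⟩
    simp only [f, dif_pos hc]
    exact coeff_eq_of_isConj y.2 (isConj_fixed hP hcop C hC hc.choose_spec).symm

/-- `β` is the Brauer correspondent of `χ`. -/
def BRel (χ : IrrCharacter G) (β : IrrCharacter C) : Prop :=
  omegaBar M β (br (Res M) C (idem hM hcop χ)) = 1

include hC hP in
theorem br_idem_ne_zero {χ : IrrCharacter G} (hχ : IsInv P (χ : G → ℂ)) :
    br (Res M) C (idem hM hcop χ) ≠ 0 := by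
  classical
  intro h
  have := omegaBar_eq_of_br_eq hP C hC hχ hcop hM (isInvCtr_idem hcop hM hχ) isInvCtr_zero
    (h.trans br_zero.symm)
  rw [omegaBar_idem hM hcop, if_pos rfl, map_zero] at this
  exact one_ne_zero this

include hcop in
theorem natCard_fixed_not_dvd : ¬ p ∣ Nat.card C :=
  fun h => hcop (h.trans (Subgroup.card_subgroup_dvd_card C))

include hC hP in
theorem omegaBar_br_idem_cases {χ : IrrCharacter G} (hχ : IsInv P (χ : G → ℂ))
    (β : IrrCharacter C) :
    omegaBar M β (br (Res M) C (idem hM hcop χ)) = 0 ∨ BRel hcop C hM χ β := by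
  haveI := charP_res hM
  have h := congrArg (omegaBar M β) (br_mul hP C hC (isInvCtr_idem hcop hM hχ)
    (isInvCtr_idem hcop hM hχ))
  rw [idem_sq, map_mul] at h
  rcases eq_or_ne (omegaBar M β (br (Res M) C (idem hM hcop χ))) 0 with h0 | h0
  · exact Or.inl h0
  · exact Or.inr ((mul_eq_left₀ h0).1 h.symm)

include hC hP in
theorem exists_bRel {χ : IrrCharacter G} (hχ : IsInv P (χ : G → ℂ)) :
    ∃ β : IrrCharacter C, BRel hcop C hM χ β := by
  by_contra hne
  push Not at hne
  refine br_idem_ne_zero hP hcop C hC hM hχ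
    (ctr_ext_omegaBar hM (natCard_fixed_not_dvd hcop C) fun β => ?_)
  rw [map_zero]
  exact (omegaBar_br_idem_cases hP hcop C hC hM hχ β).resolve_right (hne β)

include hC hP in
theorem bRel_right_unique {χ : IrrCharacter G} (hχ : IsInv P (χ : G → ℂ))
    {β β' : IrrCharacter C} (h : BRel hcop C hM χ β) (h' : BRel hcop C hM χ β') : β = β' := by
  haveI := charP_res hM
  refine omegaBar_injective hM (natCard_fixed_not_dvd hcop C) (RingHom.ext fun y => ?_)
  obtain ⟨z, hz, rfl⟩ := br_surjective hP hcop C hC hM y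
  have h1 := br_mul hP C hC hz (isInvCtr_idem hcop hM hχ)
  rw [mul_idem hM hcop, br_scalar_mul] at h1
  have e := congrArg (omegaBar M β) h1
  have e' := congrArg (omegaBar M β') h1
  rw [map_mul, map_mul, omegaBar_scalar, h, mul_one, mul_one] at e
  rw [map_mul, map_mul, omegaBar_scalar, h', mul_one, mul_one] at e'
  rw [← e, ← e']

include hC hP in
theorem bRel_left_unique {χ χ' : IrrCharacter G} (hχ : IsInv P (χ : G → ℂ))
    (hχ' : IsInv P (χ' : G → ℂ)) {β : IrrCharacter C} (h : BRel hcop C hM χ β)
    (h' : BRel hcop C hM χ' β) : χ = χ' := by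
  haveI := charP_res hM
  by_contra hne
  have e := congrArg (omegaBar M β) (br_mul hP C hC (isInvCtr_idem hcop hM hχ)
    (isInvCtr_idem hcop hM hχ'))
  rw [idem_ortho hM hcop hne, br_zero, map_zero, map_mul, h, h', mul_one] at e
  exact zero_ne_one e

include hC hP in
theorem exists_bRel_left (β : IrrCharacter C) :
    ∃ χ : IrrCharacter G, IsInv P (χ : G → ℂ) ∧ BRel hcop C hM χ β := by
  classical
  have h := congrArg (omegaBar M β) (sum_br_idem hP hcop C hC hM)
  rw [map_sum, map_one] at h
  obtain ⟨χ, -, hχ⟩ := Finset.exists_ne_zero_of_sum_ne_zero (by rw [h]; exact one_ne_zero)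
  exact ⟨χ.1, χ.2, (omegaBar_br_idem_cases hP hcop C hC hM χ.2 β).resolve_left hχ⟩

include hC hP in
theorem br_idem_eq {χ : IrrCharacter G} (hχ : IsInv P (χ : G → ℂ)) {β : IrrCharacter C}
    (h : BRel hcop C hM χ β) :
    br (Res M) C (idem hM hcop χ) = idem hM (natCard_fixed_not_dvd hcop C) β := by
  classical
  refine ctr_ext_omegaBar hM (natCard_fixed_not_dvd hcop C) fun γ => ?_
  rw [omegaBar_idem hM (natCard_fixed_not_dvd hcop C)]
  split_ifs with hg
  · rw [hg]; exact h
  · exact (omegaBar_br_idem_cases hP hcop C hC hM hχ γ).resolve_right fun h' =>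
      hg (bRel_right_unique hP hcop C hC hM hχ h' h)

include hC hP in
/-- The multiplicities of the restriction of an invariant character, modulo `p`. -/
theorem classInner_bRel {χ : IrrCharacter G} (hχ : IsInv P (χ : G → ℂ)) {β : IrrCharacter C}
    (h : BRel hcop C hM χ β) (γ : IrrCharacter C) (m : ℕ)
    (hm : Cfsg.classInner (fun c : C => (χ : G → ℂ) c) (γ : C → ℂ) = (m : ℂ)) :
    (γ ≠ β → (m : Res M) = 0) ∧ (γ = β → (m : Res M) * (m : Res M) = 1) := by
  haveI := charP_res hM
  haveI : Fact p.Prime := ‹_›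
  have hCn := natCard_fixed_not_dvd hcop C
  obtain ⟨a, -, ha⟩ := Characters.exists_degree_pos χ.2
  obtain ⟨b, -, hb⟩ := Characters.exists_degree_pos β.2
  have ha0 := degree_red_ne_zero hM hcop χ a ha
  have hb0 := degree_red_ne_zero hM hCn β b hb
  have hG0 : (Nat.card G : Res M) ≠ 0 := by rwa [ne_eq, red_natCast_eq_zero_iff hM]
  have hC0 : (Nat.card C : Res M) ≠ 0 := by rwa [ne_eq, red_natCast_eq_zero_iff hM]
  have hGC : (Nat.card G : Res M) = (Nat.card C : Res M) :=
    (CharP.natCast_eq_natCast (Res M) p).2 (card_fix_modEq hP C hC)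
  let xv : C → localRing M := fun c => ⟨conj ((χ : G → ℂ) c), memLocalRing_of_isIntegral (by
    rw [← Characters.character_inv (Characters.isCharacter_of_isIrr χ.2)]
    exact Characters.character_isIntegral (Characters.isCharacter_of_isIrr χ.2) _)⟩
  let bv : C → localRing M := fun c => ⟨conj ((β : C → ℂ) c), memLocalRing_of_isIntegral (by
    rw [← Characters.character_inv (Characters.isCharacter_of_isIrr β.2)]
    exact Characters.character_isIntegral (Characters.isCharacter_of_isIrr β.2) _)⟩
  let gv : C → localRing M := fun c => ⟨(γ : C → ℂ) c, memLocalRing_of_isIntegral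
    (Characters.character_isIntegral (Characters.isCharacter_of_isIrr γ.2) _)⟩
  have key : ∀ c : C, (a : Res M) * red M (xv c) = (b : Res M) * red M (bv c) := by
    intro c
    have e := congrArg (fun z : Ctr (Res M) C => (z : MonoidAlgebra (Res M) C).coeff c)
      (br_idem_eq hP hcop C hC hM hχ h)
    simp only [coeff_br, idem, coeff_idemBar] at e
    have h1 : (Nat.card G : localRing M) * ⟨Cfsg.blockCoeff {χ} (c : G),
        memLocalRing_blockCoeff (isBlockUnion_singleton hM hcop χ) (c : G)⟩ = a * xv c := by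
      refine Subtype.ext ?_
      simp [Cfsg.blockCoeff, ha, xv]
    have h2 : (Nat.card C : localRing M) * ⟨Cfsg.blockCoeff {β} c,
        memLocalRing_blockCoeff (isBlockUnion_singleton hM hCn β) c⟩ = b * bv c := by
      refine Subtype.ext ?_
      simp [Cfsg.blockCoeff, hb, bv]
    have h1' := congrArg (red M) h1
    have h2' := congrArg (red M) h2
    rw [map_mul, map_mul, map_natCast, map_natCast] at h1' h2'
    rw [← h1', ← h2', e, hGC]
  classical
  obtain ⟨cγ, -, hcγ⟩ := Characters.exists_degree_pos γ.2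
  have hsum : (Nat.card C : localRing M) * m = ∑ c : C, xv c * gv c := by
    refine Subtype.ext ?_
    push_cast
    rw [← Complex.conj_natCast m, ← hm, Cfsg.classInner, map_mul, map_inv₀, Complex.conj_natCast,
      ← mul_assoc, mul_inv_cancel₀ Characters.natCard_ne_zero, one_mul, map_sum]
    exact Finset.sum_congr rfl fun c _ => by simp [xv, gv]
  have hsum2 : ∑ c : C, bv c * gv c =
      (Nat.card C : localRing M) * if γ = β then 1 else 0 := by
    refine Subtype.ext ?_
    have h1 := Characters.classInner_irr γ β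
    rw [Cfsg.classInner, inv_mul_eq_iff_eq_mul₀ Characters.natCard_ne_zero] at h1
    have h2 : ((if γ = β then 1 else 0 : localRing M) : ℂ) = if γ = β then 1 else 0 := by
      split_ifs <;> rfl
    push_cast
    rw [h2, ← h1]
    exact Finset.sum_congr rfl fun c _ => by simp [bv, gv, mul_comm]
  have e1 : (a : Res M) * m = if γ = β then (b : Res M) else 0 := by
    have h1 := congrArg (red M) hsum
    have h2 := congrArg (red M) hsum2
    rw [map_mul, map_natCast, map_natCast, map_sum] at h1
    rw [map_mul, map_natCast, map_sum] at h2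
    refine mul_left_cancel₀ hC0 ?_
    calc (Nat.card C : Res M) * ((a : Res M) * m) = a * ∑ c : C, red M (xv c * gv c) := by
          rw [← h1]; ring
      _ = b * ∑ c : C, red M (bv c * gv c) := by
          rw [Finset.mul_sum, Finset.mul_sum]
          refine Finset.sum_congr rfl fun c _ => ?_
          rw [map_mul, map_mul, ← mul_assoc, key, mul_assoc]
      _ = _ := by rw [h2]; split_ifs <;> simp [mul_comm]
  constructor
  · intro hne
    rw [if_neg hne] at e1
    exact (mul_eq_zero.1 e1).resolve_left ha0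
  · intro heq
    rw [if_pos heq] at e1
    have h3 : (a : Res M) * a = b * b := by
      have := key 1
      have hx1 : red M (xv 1) = a := by
        rw [← map_natCast (red M)]
        congr 1
        exact Subtype.ext (by simp [xv, ha])
      have hb1 : red M (bv 1) = b := by
        rw [← map_natCast (red M)]
        congr 1
        exact Subtype.ext (by simp [bv, hb])
      rwa [hx1, hb1] at this
    refine mul_left_cancel₀ (mul_ne_zero ha0 ha0) ?_
    rw [mul_one]
    conv_rhs => rw [h3, ← e1]
    ring

end Main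

section Final

variable {P : Type*} [Group P] [Finite P] {G : Type*} [Group G] [Fintype G]
  [MulDistribMulAction P G] {p : ℕ} [Fact p.Prime]
  (hP : IsPGroup p P) (hcop : ¬ p ∣ Nat.card G)
  (C : Subgroup G) [Fintype C] (hC : ∀ g, g ∈ C ↔ ∀ s : P, s • g = g)

include hP hcop hC

theorem rel_iff_bRel {M : Ideal AlgInt} [M.IsPrime] (hM : Cfsg.IsPModular p M)
    {χ : IrrCharacter G} (hχ : IsInv P (χ : G → ℂ)) (β : IrrCharacter C) :
    Rel p C χ β ↔ BRel hcop C hM χ β := by
  obtain ⟨γ, hγ⟩ := exists_bRel hP hcop C hC hM hχ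
  obtain ⟨m, hm⟩ := Characters.classInner_character_irr
    (Characters.isCharacter_restrict C (Characters.isCharacter_of_isIrr χ.2)) β.2
  constructor
  · rintro ⟨m', hm', hd⟩
    by_contra hne
    have h0 := (classInner_bRel hP hcop C hC hM hχ hγ β m' hm').1 fun h => hne (h ▸ hγ)
    exact hd ((red_natCast_eq_zero_iff hM m').1 h0)
  · intro hb
    refine ⟨m, hm, fun hd => ?_⟩
    have h1 := (classInner_bRel hP hcop C hC hM hχ hb β m hm).2 rfl
    rw [(red_natCast_eq_zero_iff hM m).2 hd, mul_zero] at h1
    exact zero_ne_one h1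

/-- Existence and uniqueness of the Glauberman correspondent. -/
theorem existsUnique_rel {χ : IrrCharacter G} (hχ : IsInv P (χ : G → ℂ)) :
    ∃! β : IrrCharacter C, Rel p C χ β := by
  obtain ⟨M, hM⟩ := exists_isPModular p (Fact.out : p.Prime)
  haveI := IsPModular.isPrime hM
  obtain ⟨β, hβ⟩ := exists_bRel hP hcop C hC hM hχ
  exact ⟨β, (rel_iff_bRel hP hcop C hC hM hχ β).2 hβ, fun γ hγ =>
    bRel_right_unique hP hcop C hC hM hχ ((rel_iff_bRel hP hcop C hC hM hχ γ).1 hγ) hβ⟩

/-- The correspondence is injective. -/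
theorem rel_left_unique {χ χ' : IrrCharacter G} (hχ : IsInv P (χ : G → ℂ))
    (hχ' : IsInv P (χ' : G → ℂ)) {β : IrrCharacter C} (h : Rel p C χ β) (h' : Rel p C χ' β) :
    χ = χ' := by
  obtain ⟨M, hM⟩ := exists_isPModular p (Fact.out : p.Prime)
  haveI := IsPModular.isPrime hM
  exact bRel_left_unique hP hcop C hC hM hχ hχ' ((rel_iff_bRel hP hcop C hC hM hχ β).1 h)
    ((rel_iff_bRel hP hcop C hC hM hχ' β).1 h')

/-- The correspondence is surjective. -/
theorem exists_rel_left (β : IrrCharacter C) :
    ∃ χ : IrrCharacter G, IsInv P (χ : G → ℂ) ∧ Rel p C χ β := by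
  obtain ⟨M, hM⟩ := exists_isPModular p (Fact.out : p.Prime)
  haveI := IsPModular.isPrime hM
  obtain ⟨χ, hχ, h⟩ := exists_bRel_left hP hcop C hC hM β
  exact ⟨χ, hχ, (rel_iff_bRel hP hcop C hC hM hχ β).2 h⟩

/-- The multiplicity of the correspondent is congruent to `±1` modulo `p`. -/
theorem rel_mult_congr {χ : IrrCharacter G} (hχ : IsInv P (χ : G → ℂ)) {β : IrrCharacter C}
    {m : ℕ} (hm : Cfsg.classInner (fun c : C => (χ : G → ℂ) c) (β : C → ℂ) = (m : ℂ))
    (hd : ¬ p ∣ m) : (m : ℤ) ≡ 1 [ZMOD p] ∨ (m : ℤ) ≡ -1 [ZMOD p] := by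
  obtain ⟨M, hM⟩ := exists_isPModular p (Fact.out : p.Prime)
  haveI := IsPModular.isPrime hM
  haveI := charP_res hM
  have h1 := (classInner_bRel hP hcop C hC hM hχ
    ((rel_iff_bRel hP hcop C hC hM hχ β).1 ⟨m, hm, hd⟩) β m hm).2 rfl
  rcases mul_self_eq_one_iff.1 h1 with h | h
  · left
    rw [← CharP.intCast_eq_intCast (Res M) p]
    simpa using h
  · right
    rw [← CharP.intCast_eq_intCast (Res M) p]
    simpa using h

end Final

end CfsgLib.Glauberman
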