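import Cfsg.Agent.Glauberman.Over
import Cfsg.Agent.Coprime.Action
import Cfsg.Agent.CharactersDeep.Gallagher
import Cfsg.Agent.CharactersDeep.LinearChar
import Cfsg.Agent.OddOrderChar.AbelianInertia

/-!
# Invariant constituents under a relatively coprime action

If `S` acts on `G`, stabilises the normal subgroup `N` and has order prime to `|G : N|`, invariant
characters have invariant constituents below (one of `S`, `G ⧸ N` solvable) and above (`G ⧸ N`
solvable).
-/

set_option autoImplicit false
set_option linter.style.haveILetI false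
set_option linter.unusedSectionVars false

namespace CfsgLib.Glauberman

open Cfsg CfsgLib.Characters CfsgLib.OddOrderChar
open scoped ComplexConjugate

universe u v

/-- Glauberman's lemma for two groups of permutations. -/
theorem exists_fixed_perm {Ω : Type*} [Finite Ω] {A B : Type*} [Group A] [Finite A] [Group B]
    [Finite B] (f : A →* Equiv.Perm Ω) (g : B →* Equiv.Perm Ω)
    (hcomm : ∀ a b, ∃ b', f a * g b = g b' * f a) (hcop : (Nat.card A).Coprime (Nat.card B))
    (hsolv : Group.IsSolvable A ∨ Group.IsSolvable B) (s : Set Ω) (hne : s.Nonempty)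
    (hAs : ∀ a, ∀ x ∈ s, f a x ∈ s) (hBs : ∀ b, ∀ x ∈ s, g b x ∈ s)
    (htrans : ∀ x ∈ s, ∀ y ∈ s, ∃ b, g b x = y) : ∃ x ∈ s, ∀ a, f a x = x := by
  obtain ⟨x, hx, hfix⟩ := CfsgLib.Coprime.exists_fixed_of_transitive (A := f.range) (G := g.range)
    (by
      rintro _ ⟨a, rfl⟩
      rw [Subgroup.mem_normalizer_iff]
      intro x
      constructor
      · rintro ⟨b, rfl⟩
        obtain ⟨b', hb⟩ := hcomm a b
        exact ⟨b', by rw [hb, mul_inv_cancel_right]⟩
      · rintro ⟨b, hb⟩
        obtain ⟨b', hb'⟩ := hcomm a⁻¹ b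
        refine ⟨b', ?_⟩
        rw [map_inv, hb] at hb'
        calc g b' = g b' * (f a)⁻¹ * f a := (inv_mul_cancel_right _ _).symm
          _ = x := by rw [← hb']; group)
    ((hcop.coprime_dvd_left (Subgroup.card_range_dvd f)).coprime_dvd_right
      (Subgroup.card_range_dvd g))
    (hsolv.imp (fun h => by haveI := h; exact Group.isSolvable_of_surjective f.rangeRestrict_surjective)
      (fun h => by haveI := h; exact Group.isSolvable_of_surjective g.rangeRestrict_surjective))
    s hne (by rintro _ ⟨a, rfl⟩ y hy; exact hAs a y hy)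
    (by rintro _ ⟨b, rfl⟩ y hy; exact hBs b y hy)
    (fun y hy z hz => by obtain ⟨b, hb⟩ := htrans y hy z hz; exact ⟨_, ⟨b, rfl⟩, hb⟩)
  exact ⟨x, hx, fun a => hfix _ ⟨a, rfl⟩⟩

/-- Constituents of constituents are constituents. -/
theorem classInner_ne_zero_trans {M : Type*} [Group M] [Fintype M] {N : Type*} [Group N] [Fintype N]
    (ι : N →* M) {A : M → ℂ} (hA : Cfsg.IsCharacter M A) (ψ : IrrCharacter M) (θ : IrrCharacter N)
    (h₁ : Cfsg.classInner A (ψ : M → ℂ) ≠ 0)
    (h₂ : Cfsg.classInner (fun n => (ψ : M → ℂ) (ι n)) (θ : N → ℂ) ≠ 0) :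
    Cfsg.classInner (fun n => A (ι n)) (θ : N → ℂ) ≠ 0 := by
  classical
  obtain ⟨m, hm⟩ := exists_nat_coeff hA
  choose k hk using fun φ : IrrCharacter M => classInner_character_irr
    (isCharacter_comp ι (isCharacter_of_isIrr φ.2)) θ.2
  have hval : Cfsg.classInner (fun n => A (ι n)) (θ : N → ℂ) = ((∑ φ, m φ * k φ : ℕ) : ℂ) := by
    have he : (fun n => A (ι n)) =
        ∑ φ : IrrCharacter M, (m φ : ℂ) • fun n => (φ : M → ℂ) (ι n) := by
      funext n; rw [hm]; simp [Finset.sum_apply]
    rw [he, classInner_sum_left]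
    push_cast
    exact Finset.sum_congr rfl fun φ _ => by rw [classInner_smul_left, hk]
  rw [hval, Nat.cast_ne_zero]
  intro h0
  rcases Nat.mul_eq_zero.1 (Finset.sum_eq_zero_iff.1 h0 ψ (Finset.mem_univ _)) with h | h
  · exact h₁ (by rw [hm, classInner_irr_coeff (fun φ => (m φ : ℂ)) ψ, h, Nat.cast_zero])
  · exact h₂ (by rw [hk, h, Nat.cast_zero])

/-- Characters with a common constituent are not orthogonal. -/
theorem classInner_ne_zero_common {N : Type*} [Group N] [Fintype N] {A B : N → ℂ}
    (hA : Cfsg.IsCharacter N A) (hB : Cfsg.IsCharacter N B) (θ : IrrCharacter N)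
    (h₁ : Cfsg.classInner A (θ : N → ℂ) ≠ 0) (h₂ : Cfsg.classInner B (θ : N → ℂ) ≠ 0) :
    Cfsg.classInner A B ≠ 0 := by
  classical
  obtain ⟨m, hm⟩ := exists_nat_coeff hA
  choose k hk using fun φ : IrrCharacter N => classInner_character_irr hB φ.2
  have hval : Cfsg.classInner A B = ((∑ φ, m φ * k φ : ℕ) : ℂ) := by
    rw [hm, classInner_sum_left]
    push_cast
    refine Finset.sum_congr rfl fun φ _ => ?_
    rw [classInner_smul_left, classInner_conj_symm, hk, Complex.conj_natCast]
  rw [hval, Nat.cast_ne_zero]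
  intro h0
  rcases Nat.mul_eq_zero.1 (Finset.sum_eq_zero_iff.1 h0 θ (Finset.mem_univ _)) with h | h
  · exact h₁ (by rw [hm, classInner_irr_coeff (fun φ => (m φ : ℂ)) θ, h, Nat.cast_zero])
  · exact h₂ (by rw [hk, h, Nat.cast_zero])

variable {G : Type v} [Group G] [Fintype G]

/-- Twisting by a linear character keeps irreducibility. -/
theorem isIrr_mul_hom {χ : G → ℂ} (hχ : Cfsg.IsIrrCharacter G χ) (l : G →* ℂˣ) :
    Cfsg.IsIrrCharacter G (fun g => χ g * (l g : ℂ)) := by
  refine isIrr_of_classInner_self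
    (isCharacter_mul (isCharacter_of_isIrr hχ) (CharactersDeep.LinearChar.isCharacter_hom l)) ?_
  rw [← classInner_isIrr_self hχ]
  simp only [Cfsg.classInner]
  congr 1
  refine Finset.sum_congr rfl fun g _ => ?_
  have h1 : (l g : ℂ) ^ Nat.card G = 1 := by
    rw [← Units.val_pow_eq_pow_val, ← map_pow, pow_card_eq_one', map_one, Units.val_one]
  have h2 : ‖(l g : ℂ)‖ = 1 :=
    Complex.norm_eq_one_of_pow_eq_one h1 (Nat.card_pos (α := G)).ne'
  have h3 : (l g : ℂ) * conj (l g : ℂ) = 1 := by
    rw [Complex.mul_conj', h2]; norm_num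
  rw [map_mul]
  linear_combination (χ g * conj (χ g)) * h3

/-- Linear twists as permutations of the irreducible characters. -/
noncomputable def linTwist : (G →* ℂˣ) →* Equiv.Perm (IrrCharacter G) :=
  @MulAction.toPermHom (G →* ℂˣ) (IrrCharacter G) _
    { smul := fun l χ => ⟨fun g => (χ : G → ℂ) g * (l g : ℂ), isIrr_mul_hom χ.2 l⟩
      one_smul := fun χ => Subtype.ext (funext fun g => by
        show (χ : G → ℂ) g * ((1 : G →* ℂˣ) g : ℂ) = _
        simp)
      mul_smul := fun l l' χ => Subtype.ext (funext fun g => by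
        show (χ : G → ℂ) g * ((l * l') g : ℂ) = (χ : G → ℂ) g * (l' g : ℂ) * (l g : ℂ)
        simp; ring) }

variable {S : Type u} [Group S] [Finite S] [MulDistribMulAction S G] (N : Subgroup G) [N.Normal]
  [Fintype N]

variable (hN : ∀ (s : S), ∀ x ∈ N, s • x ∈ N)

include hN in
/-- An invariant character has an invariant constituent below. -/
theorem exists_inv_below (hcop : (N.index).Coprime (Nat.card S))
    (hsolv : Group.IsSolvable S ∨ Group.IsSolvable (G ⧸ N)) (χ : IrrCharacter G)
    (hχ : IsInv S (χ : G → ℂ)) :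
    ∃ θ : IrrCharacter N, Cfsg.classInner (fun n : N => (χ : G → ℂ) n) (θ : N → ℂ) ≠ 0 ∧
      ∀ (s : S) (x y : N), (y : G) = s • (x : G) → (θ : N → ℂ) y = (θ : N → ℂ) x := by
  classical
  letI := stableAction S N hN
  letI := irrAction S N
  let c : G →* Equiv.Perm (IrrCharacter N) :=
    { toFun := fun g => irrCongr (MulAut.conjNormal (H := N) g⁻¹)
      map_one' := Equiv.ext fun φ => Subtype.ext (funext fun n => by
        simp [irrCongr_apply])
      map_mul' := fun g h => Equiv.ext fun φ => Subtype.ext (funext fun n => by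
        simp [irrCongr_apply, map_mul, Equiv.Perm.mul_apply]) }
  have hcker : N ≤ c.ker := fun x hx => Equiv.ext fun φ => Subtype.ext (funext fun n => by
    show (φ : N → ℂ) (MulAut.conjNormal (H := N) x⁻¹ n) = (φ : N → ℂ) n
    have := Characters.isClassFunction_of_isIrr φ.2 n ⟨x⁻¹, inv_mem hx⟩
    refine Eq.trans (congrArg (φ : N → ℂ) (Subtype.ext ?_)) this
    simp)
  have hχc := isClassFunction_of_isIrr χ.2
  obtain ⟨θ, hθ⟩ : ∃ θ : IrrCharacter N,
      Cfsg.classInner (fun n : N => (χ : G → ℂ) n) (θ : N → ℂ) ≠ 0 := by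
    by_contra h
    push Not at h
    refine irr_one_ne_zero χ.2 ?_
    have := congrFun (character_expansion (isCharacter_restrict N (isCharacter_of_isIrr χ.2))) 1
    simpa [Finset.sum_apply, h] using this
  obtain ⟨φ, hφ, hfix⟩ := exists_fixed_perm (MulAction.toPermHom S (IrrCharacter N))
    (QuotientGroup.lift N c hcker)
    (fun s q => by
      induction q using QuotientGroup.induction_on with
      | H g =>
        refine ⟨((s • g : G) : G ⧸ N), Equiv.ext fun φ => Subtype.ext (funext fun n => ?_)⟩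
        show (φ : N → ℂ) (MulAut.conjNormal (H := N) g⁻¹ (s⁻¹ • n)) =
          (φ : N → ℂ) (s⁻¹ • MulAut.conjNormal (H := N) (s • g)⁻¹ n)
        refine congrArg (φ : N → ℂ) (Subtype.ext ?_)
        show g⁻¹ * (s⁻¹ • (n : G)) * g⁻¹⁻¹ = s⁻¹ • ((s • g)⁻¹ * (n : G) * (s • g)⁻¹⁻¹)
        simp [smul_mul', smul_inv'])
    (by rw [← Subgroup.index_eq_card]; exact hcop.symm) hsolv
    {φ | Cfsg.classInner (fun n : N => (χ : G → ℂ) n) (φ : N → ℂ) ≠ 0} ⟨θ, hθ⟩
    (by
      intro s φ hφ h0
      refine hφ ?_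
      rw [← h0, ← classInner_comp (MulDistribMulAction.toMulEquiv N s⁻¹)
        (fun n : N => (χ : G → ℂ) n) (φ : N → ℂ)]
      congr 1
      funext n
      exact hχ s⁻¹ (n : G))
    (by
      intro q φ hφ
      induction q using QuotientGroup.induction_on with
      | H g =>
        intro h0
        refine hφ ?_
        rw [← h0]
        exact (CharactersDeep.Clifford.classInner_restrict_conjBy N hχc (φ : N → ℂ) g⁻¹).symm.trans
          (by congr 1))
    (fun φ hφ ψ hψ => by
      obtain ⟨g, hg⟩ :=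
        CharactersDeep.Clifford.exists_conjBy_of_constituents N χ.2 φ.2 ψ.2 hφ hψ
      refine ⟨((g⁻¹ : G) : G ⧸ N), Subtype.ext (funext fun n => ?_)⟩
      show (φ : N → ℂ) (MulAut.conjNormal (H := N) g⁻¹⁻¹ n) = _
      rw [hg]
      exact congrArg (φ : N → ℂ) (Subtype.ext (by simp)))
  refine ⟨φ, hφ, fun s x y hxy => ?_⟩
  rw [show y = s • x from Subtype.ext hxy]
  exact ((isInv_iff_twist φ).2 hfix) s x

include hN in
/-- The case of an abelian quotient. -/
theorem exists_inv_above_comm (hcomm : commutator G ≤ N) (hcop : (N.index).Coprime (Nat.card S))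
    (θ : IrrCharacter N)
    (hθ : ∀ (s : S) (x y : N), (y : G) = s • (x : G) → (θ : N → ℂ) y = (θ : N → ℂ) x) :
    ∃ χ : IrrCharacter G, IsInv S (χ : G → ℂ) ∧
      Cfsg.classInner (fun n : N => (χ : G → ℂ) n) (θ : N → ℂ) ≠ 0 := by
  classical
  letI := stableAction S N hN
  letI := irrAction S G
  haveI := Fintype.ofFinite (G ⧸ N)
  have hab : ∀ x y : G ⧸ N, x * y = y * x := fun x y => by
    induction x using QuotientGroup.induction_on with | H a => ?_
    induction y using QuotientGroup.induction_on with | H b => ?_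
    rw [← QuotientGroup.mk_mul, ← QuotientGroup.mk_mul, QuotientGroup.eq]
    refine hcomm ?_
    have := Subgroup.commutator_mem_commutator (Subgroup.mem_top b⁻¹) (Subgroup.mem_top a⁻¹)
    rw [commutatorElement_def] at this
    simpa [mul_assoc, commutator_def] using this
  letI : CommGroup (G ⧸ N) := { (inferInstance : Group (G ⧸ N)) with mul_comm := hab }
  obtain ⟨e⟩ := CommGroup.monoidHom_mulEquiv_of_hasEnoughRootsOfUnity (G ⧸ N) ℂ
  haveI : Finite (G ⧸ N →* ℂˣ) := Finite.of_equiv _ e.toEquiv.symm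
  let inf : (G ⧸ N →* ℂˣ) →* (G →* ℂˣ) :=
    { toFun := fun l => l.comp (QuotientGroup.mk' N)
      map_one' := rfl
      map_mul' := fun _ _ => rfl }
  obtain ⟨χ₀, hχ₀, hne₀⟩ := CharactersDeep.Clifford.exists_over N θ.2
  obtain ⟨χ, hχ, hfix⟩ := exists_fixed_perm (MulAction.toPermHom S (IrrCharacter G))
    (linTwist.comp inf)
    (fun s l => by
      refine ⟨QuotientGroup.lift N ((inf l).comp (autHom (G := G) s⁻¹)) (fun x hx => ?_),
        Equiv.ext fun φ => Subtype.ext (funext fun g => ?_)⟩
      · show l ((s⁻¹ • x : G) : G ⧸ N) = 1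
        rw [(QuotientGroup.eq_one_iff _).2 (hN _ x hx), map_one]
      · rfl)
    (by rw [Nat.card_congr e.toEquiv, ← Subgroup.index_eq_card]; exact hcop.symm)
    (Or.inr inferInstance)
    {φ | Cfsg.classInner (fun n : N => (φ : G → ℂ) n) (θ : N → ℂ) ≠ 0} ⟨⟨χ₀, hχ₀⟩, hne₀⟩
    (by
      intro s φ hφ h0
      refine hφ ?_
      rw [← h0, ← classInner_comp (MulDistribMulAction.toMulEquiv N s⁻¹)
        (fun n : N => (φ : G → ℂ) n) (θ : N → ℂ)]
      congr 1
      funext n
      exact hθ s⁻¹ n _ rfl)
    (by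
      intro l φ hφ h0
      refine hφ ?_
      rw [← h0]
      congr 1
      funext n
      show (φ : G → ℂ) n = (φ : G → ℂ) n * (l ((n : G) : G ⧸ N) : ℂ)
      rw [(QuotientGroup.eq_one_iff _).2 n.2, map_one, Units.val_one, mul_one])
    (fun φ hφ ψ hψ => by
      have hne := classInner_ne_zero_common (isCharacter_restrict N (isCharacter_of_isIrr φ.2))
        (isCharacter_restrict N (isCharacter_of_isIrr ψ.2)) θ hφ hψ
      rw [← classInner_indFun N _ (isClassFunction_of_isIrr ψ.2),
        CharactersDeep.Gallagher.indFun_restrict N φ.2, classInner_sum_left] at hne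
      obtain ⟨β, -, hβ⟩ := Finset.exists_ne_zero_of_sum_ne_zero hne
      rw [classInner_smul_left] at hβ
      obtain ⟨f, hf⟩ := exists_hom_of_degree_one (isCharacter_of_isIrr β.2)
        (irr_degree_one_of_comm hab β)
      refine ⟨f, Subtype.ext ?_⟩
      have heq : CharactersDeep.Gallagher.prodInfl N (φ : G → ℂ) (β : G ⧸ N → ℂ) =
          ((linTwist (inf f) φ : IrrCharacter G) : G → ℂ) := by
        funext g; rw [CharactersDeep.Gallagher.prodInfl, hf]; rfl
      by_contra hne'
      refine hβ ?_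
      rw [heq, classInner_isIrr_ne (linTwist (inf f) φ).2 ψ.2 hne', mul_zero])
  exact ⟨χ, (isInv_iff_twist χ).2 hfix, hχ⟩

/-- An invariant character has an invariant constituent above. -/
theorem exists_inv_above (n : ℕ) : ∀ (G : Type v) [Group G] [Fintype G] [MulDistribMulAction S G]
    (N : Subgroup G) [N.Normal] [Fintype N], N.index = n → (∀ (s : S), ∀ x ∈ N, s • x ∈ N) →
    n.Coprime (Nat.card S) → Group.IsSolvable (G ⧸ N) → ∀ θ : IrrCharacter N,
    (∀ (s : S) (x y : N), (y : G) = s • (x : G) → (θ : N → ℂ) y = (θ : N → ℂ) x) →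
    ∃ χ : IrrCharacter G, IsInv S (χ : G → ℂ) ∧
      Cfsg.classInner (fun x : N => (χ : G → ℂ) x) (θ : N → ℂ) ≠ 0 := by
  induction n using Nat.strong_induction_on with
  | _ n ih =>
    intro G _ _ _ N _ _ hn hN hcop hsolv θ hθ
    by_cases hab : commutator G ≤ N
    · exact exists_inv_above_comm N hN hab (hn ▸ hcop) θ hθ
    set M := commutator G ⊔ N with hMdef
    haveI : M.Normal := Subgroup.sup_normal _ _
    haveI : Fintype M := Fintype.ofFinite _
    have hNM : N ≤ M := le_sup_right
    have hMtop : M ≠ ⊤ := fun h => by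
      haveI : Nontrivial (G ⧸ N) :=
        QuotientGroup.nontrivial_iff.2 fun hN' => hab (by rw [hN']; exact le_top)
      refine (Group.IsSolvable.commutator_lt_top_of_nontrivial (G ⧸ N)).ne ?_
      have h1 := congrArg (Subgroup.map (QuotientGroup.mk' N)) h
      rw [hMdef, Subgroup.map_sup, QuotientGroup.map_mk'_self, sup_bot_eq,
        Subgroup.map_top_of_surjective _ (QuotientGroup.mk'_surjective N), commutator_def,
        Subgroup.map_commutator, Subgroup.map_top_of_surjective _ (QuotientGroup.mk'_surjective N)]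
        at h1
      exact h1
    have hM : ∀ (s : S), ∀ x ∈ M, s • x ∈ M := fun s x hx => by
      have hle : M.map (autHom (G := G) s) ≤ M := by
        rw [hMdef, Subgroup.map_sup, commutator_def, Subgroup.map_commutator]
        refine sup_le_sup (Subgroup.commutator_mono le_top le_top) ?_
        rintro _ ⟨y, hy, rfl⟩
        exact hN s y hy
      exact hle ⟨x, hx, rfl⟩
    have hlt : (N.subgroupOf M).index < n := by
      rw [← hn, ← Subgroup.relIndex_mul_index hNM]
      refine lt_mul_of_one_lt_right (Nat.pos_of_ne_zero Subgroup.index_ne_zero_of_finite) ?_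
      have h0 : M.index ≠ 0 := Subgroup.index_ne_zero_of_finite
      have h1 : M.index ≠ 1 := fun h => hMtop (Subgroup.index_eq_one.1 h)
      omega
    have hdvd : (N.subgroupOf M).index ∣ n := hn ▸ Subgroup.relIndex_dvd_index_of_normal N M
    letI := stableAction S M hM
    haveI : Fintype (N.subgroupOf M) := Fintype.ofFinite _
    let e : N.subgroupOf M ≃* N := Subgroup.subgroupOfEquivOfLe hNM
    have hsolvM : Group.IsSolvable (M ⧸ N.subgroupOf M) := by
      haveI := hsolv
      refine Group.isSolvable_of_isSolvable_injective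
        (f := QuotientGroup.map (N.subgroupOf M) N M.subtype fun x hx => hx) ?_
      rw [← MonoidHom.ker_eq_bot_iff, eq_bot_iff]
      intro x hx
      induction x using QuotientGroup.induction_on with | H a => ?_
      have hx : ((a : G) : G ⧸ N) = 1 := hx
      rw [QuotientGroup.eq_one_iff] at hx
      exact Subgroup.mem_bot.2 ((QuotientGroup.eq_one_iff a).2 hx)
    obtain ⟨ψ, hψ, hψne⟩ := ih _ hlt M (N.subgroupOf M) rfl (fun s x hx => hN s _ hx)
      (hcop.coprime_dvd_left hdvd) hsolvM (irrCongr e θ)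
      (fun s x y hxy => hθ s (e x) (e y) (congrArg Subtype.val hxy))
    obtain ⟨χ, hχ, hχne⟩ := exists_inv_above_comm M hM le_sup_left
      (hcop.coprime_dvd_left (hn ▸ Subgroup.index_dvd_of_le hNM)) ψ
      (fun s x y hxy => by rw [show y = s • x from Subtype.ext hxy]; exact hψ s x)
    refine ⟨χ, hχ, classInner_ne_zero_trans (Subgroup.inclusion hNM)
      (isCharacter_restrict M (isCharacter_of_isIrr χ.2)) ψ θ hχne ?_⟩
    intro h0
    refine hψne ?_
    rw [← h0]
    exact classInner_comp e (fun x : N => (ψ : M → ℂ) (Subgroup.inclusion hNM x)) (θ : N → ℂ)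

end CfsgLib.Glauberman
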