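import Cfsg.Agent.Blocks.Idempotent
import Cfsg.Agent.RelGlauberman.PermModule
import Cfsg.Agent.Characters.Linear
import Cfsg.Agent.Characters.Integrality
import Mathlib.GroupTheory.PGroup

/-!
# The Brauer map for a p-group acting on a group of order prime to p

If a finite `p`-group `P` acts on a finite group `G` by automorphisms, restriction of
coefficients to the fixed point subgroup `C` is multiplicative on the invariant part of the
centre of the group algebra in characteristic `p`.
-/

set_option autoImplicit false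
set_option linter.style.haveILetI false
set_option linter.unusedSectionVars false

namespace CfsgLib.Glauberman

open Cfsg CfsgLib.Blocks
open scoped ComplexConjugate

variable {P : Type*} [Group P] [Finite P] {G : Type*} [Group G] [Fintype G]
  [MulDistribMulAction P G]

/-- A function on `G` is invariant under `P`. -/
def IsInv (P : Type*) {G : Type*} [Group P] [Group G] [MulDistribMulAction P G] {α : Type*}
    (f : G → α) : Prop :=
  ∀ (s : P) (g : G), f (s • g) = f g

/-- An invariant sum only sees the fixed points. -/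
theorem sum_eq_sum_fixed {p : ℕ} [Fact p.Prime] (hP : IsPGroup p P) {k : Type*} [Field k]
    [CharP k p] {X : Type*} [Fintype X] [MulAction P X] (Q : X → Prop) [DecidablePred Q]
    (hQ : ∀ x, Q x ↔ ∀ s : P, s • x = x) (f : X → k) (hf : ∀ (s : P) x, f (s • x) = f x) :
    ∑ x, f x = ∑ x : {x // Q x}, f x := by
  classical
  have hfix : ∀ (s : P) x, Q (s • x) → Q x := fun s x hx => by
    have h1 := (hQ _).1 hx s⁻¹
    rw [inv_smul_smul] at h1
    rw [h1]; exact hx
  letI : MulAction P {x // ¬ Q x} :=
    { smul := fun s x => ⟨s • x.1, fun hx => x.2 (hfix s x.1 hx)⟩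
      one_smul := fun x => Subtype.ext (one_smul P x.1)
      mul_smul := fun s t x => Subtype.ext (mul_smul s t x.1) }
  rw [← Fintype.sum_subtype_add_sum_subtype Q f]
  rw [RelGlauberman.sum_invariant_eq_zero hP (k := k) (fun x => ?_) (fun x : {x // ¬ Q x} => f x)
    (fun s x => hf s x.1), add_zero]
  by_contra hne
  push Not at hne
  exact x.2 ((hQ _).2 fun s => congrArg Subtype.val (hne s))

theorem card_fix_modEq {p : ℕ} [Fact p.Prime] (hP : IsPGroup p P) (C : Subgroup G)
    (hC : ∀ g, g ∈ C ↔ ∀ s : P, s • g = g) : Nat.card G ≡ Nat.card C [MOD p] := by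
  have := hP.card_modEq_card_fixedPoints G
  rwa [show Nat.card (MulAction.fixedPoints P G) = Nat.card C from
    Nat.card_congr (Equiv.subtypeEquivRight fun g => (hC g).symm)] at this

/-- Two fixed points conjugate in `G` are conjugate by a fixed point. -/
theorem isConj_fixed {p : ℕ} [Fact p.Prime] (hP : IsPGroup p P) (hcop : ¬ p ∣ Nat.card G)
    (C : Subgroup G) (hC : ∀ g, g ∈ C ↔ ∀ s : P, s • g = g) {c c' : C}
    (h : IsConj (c : G) (c' : G)) : IsConj c c' := by
  obtain ⟨x, hx⟩ := isConj_iff.1 h
  let X := {g : G // g * (c : G) * g⁻¹ = c'}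
  letI : MulAction P X :=
    { smul := fun s g => ⟨s • g.1, by
        have := congrArg (fun y => s • y) g.2
        simpa [smul_mul', smul_inv', (hC _).1 c.2, (hC _).1 c'.2] using this⟩
      one_smul := fun g => Subtype.ext (one_smul P g.1)
      mul_smul := fun s t g => Subtype.ext (mul_smul s t g.1) }
  have hcard : Nat.card X = Nat.card (Subgroup.centralizer ({(c : G)} : Set G)) :=
    Nat.card_congr
      { toFun := fun g => ⟨x⁻¹ * g.1, by
          rw [Subgroup.mem_centralizer_singleton_iff]
          have hg : g.1 * c * g.1⁻¹ = x * c * x⁻¹ := g.2.trans hx.symm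
          calc x⁻¹ * g.1 * c = x⁻¹ * (g.1 * c * g.1⁻¹) * g.1 := by group
            _ = c * (x⁻¹ * g.1) := by rw [hg]; group⟩
        invFun := fun z => ⟨x * z.1, by
          have hz := Subgroup.mem_centralizer_singleton_iff.1 z.2
          calc x * z.1 * c * (x * z.1)⁻¹ = x * (z.1 * c) * z.1⁻¹ * x⁻¹ := by group
            _ = x * c * x⁻¹ := by rw [hz]; group
            _ = c' := hx⟩
        left_inv := fun g => Subtype.ext (by group)
        right_inv := fun z => Subtype.ext (by group) }
  have hnd : ¬ p ∣ Nat.card X := fun hd =>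
    hcop (hd.trans (hcard ▸ Subgroup.card_subgroup_dvd_card _))
  obtain ⟨g, hg⟩ := hP.nonempty_fixed_point_of_prime_not_dvd_card X hnd
  have hgC : g.1 ∈ C := (hC _).2 fun s => congrArg Subtype.val (hg s)
  exact isConj_iff.2 ⟨⟨g.1, hgC⟩, Subtype.ext (by simpa using g.2)⟩

/-- A class invariant under `P` meets the fixed point subgroup. -/
theorem exists_fixed_isConj {p : ℕ} [Fact p.Prime] (hP : IsPGroup p P) (hcop : ¬ p ∣ Nat.card G)
    (C : Subgroup G) (hC : ∀ g, g ∈ C ↔ ∀ s : P, s • g = g) {g : G}
    (hg : ∀ s : P, IsConj g (s • g)) : ∃ c : C, IsConj g (c : G) := by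
  let X := {x : G // IsConj g x}
  letI : MulAction P X :=
    { smul := fun s x => ⟨s • x.1, (hg s).trans (by
        obtain ⟨a, ha⟩ := isConj_iff.1 x.2
        exact isConj_iff.2 ⟨s • a, by rw [← ha]; simp [smul_mul', smul_inv']⟩)⟩
      one_smul := fun x => Subtype.ext (one_smul P x.1)
      mul_smul := fun s t x => Subtype.ext (mul_smul s t x.1) }
  have hcard : Nat.card X = (Subgroup.centralizer ({g} : Set G)).index := by
    rw [← natCard_class]
    exact Nat.card_congr (Equiv.subtypeEquivRight fun x =>
      ⟨fun h => ConjClasses.mk_eq_mk_iff_isConj.2 h.symm,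
       fun h => (ConjClasses.mk_eq_mk_iff_isConj.1 h).symm⟩)
  have hnd : ¬ p ∣ Nat.card X := fun hd =>
    hcop (hd.trans (hcard ▸ Subgroup.index_dvd_card _))
  obtain ⟨x, hx⟩ := hP.nonempty_fixed_point_of_prime_not_dvd_card X hnd
  exact ⟨⟨x.1, (hC _).2 fun s => congrArg Subtype.val (hx s)⟩, x.2⟩

section Ring

variable (R : Type*) [CommRing R] (C : Subgroup G)

/-- Restriction of the coefficients of a central element to a subgroup. -/
noncomputable def br [Fintype C] (z : Ctr R G) : Ctr R C :=
  ⟨ofFun fun c : C => (z : MonoidAlgebra R G).coeff c, mem_ctr_iff.2 fun g h => by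
    simp [coeff_conj_of_mem_ctr z.2]⟩

variable {R} {C}

@[simp] theorem coeff_br [Fintype C] (z : Ctr R G) (c : C) :
    (br R C z : MonoidAlgebra R C).coeff c = (z : MonoidAlgebra R G).coeff c := by
  simp [br]

theorem br_zero [Fintype C] : br R C (0 : Ctr R G) = 0 := ctr_ext fun c => by simp

theorem br_one [Fintype C] : br R C (1 : Ctr R G) = 1 := ctr_ext fun c => by
  classical
  rw [coeff_br]
  by_cases h : c = 1
  · subst h; simp [MonoidAlgebra.one_def]
  · have h' : (c : G) ≠ 1 := fun h1 => h (Subtype.ext h1)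
    simp [MonoidAlgebra.one_def, h, h']

theorem br_scalar_mul [Fintype C] (r : R) (z : Ctr R G) :
    br R C (scalar r * z) = scalar r * br R C z := ctr_ext fun c => by
  simp [MonoidAlgebra.coeff_single_mul_apply]

theorem br_sum [Fintype C] {ι : Type*} (t : Finset ι) (z : ι → Ctr R G) :
    br R C (∑ i ∈ t, z i) = ∑ i ∈ t, br R C (z i) := ctr_ext fun c => by
  simp [MonoidAlgebra.coeff_sum]

/-- The coefficients of a central element are invariant. -/
def IsInvCtr (P : Type*) [Group P] [MulDistribMulAction P G] (z : Ctr R G) : Prop :=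
  IsInv P fun g => (z : MonoidAlgebra R G).coeff g

end Ring

/-- The Brauer map is multiplicative on invariant elements. -/
theorem br_mul {p : ℕ} [Fact p.Prime] (hP : IsPGroup p P) {k : Type*} [Field k] [CharP k p]
    (C : Subgroup G) [Fintype C] (hC : ∀ g, g ∈ C ↔ ∀ s : P, s • g = g) {a b : Ctr k G}
    (ha : IsInvCtr P a) (hb : IsInvCtr P b) : br k C (a * b) = br k C a * br k C b := by
  classical
  refine ctr_ext fun c => ?_
  rw [coeff_br, Subring.coe_mul, Subring.coe_mul, coeff_mul_eq_sum, coeff_mul_eq_sum,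
    sum_eq_sum_fixed hP (· ∈ C) hC]
  · exact Finset.sum_congr (by ext; simp) fun x _ => by simp
  · intro s x
    have : (s • x)⁻¹ * (c : G) = s • (x⁻¹ * (c : G)) := by
      rw [smul_mul', smul_inv', (hC _).1 c.2]
    have ha' := ha s x
    have hb' := hb s (x⁻¹ * (c : G))
    simp only at ha' hb'
    rw [ha', this, hb']

end CfsgLib.Glauberman
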