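import Cfsg.Agent.Glauberman.Constituent
import Cfsg.Agent.CharactersDeep.ExtensionCriteria

/-!
# A cyclic coprime section centralising `G ⧸ N` fixes the characters over an invariant `θ`
-/

set_option autoImplicit false
set_option linter.style.haveILetI false
set_option linter.unusedSectionVars false

namespace CfsgLib.Glauberman.CentralSection

open Cfsg CfsgLib.Characters CfsgLib.OddOrderChar CfsgLib.CharactersDeep

variable {Γ : Type*} [Group Γ] [Fintype Γ] (G U N : Subgroup Γ) [hG : G.Normal] [hU : U.Normal]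
  [hN : N.Normal] [Fintype G] [Fintype N]

/-- If `G ∩ U = N`, `G U = Γ` and `U ⧸ N` is cyclic of order prime to `|G : N|`, every character
of `G` over an invariant character of `N` is invariant. -/
theorem conjBy_eq (hNG : N ≤ G) (hinf : G ⊓ U = N) (htop : G ⊔ U = ⊤)
    (hcyc : IsCyclic (U ⧸ N.subgroupOf U)) (hcop : (N.relIndex U).Coprime (N.relIndex G))
    (θ : IrrCharacter N) (hθ : ∀ y, conjBy N (θ : N → ℂ) y = θ) (χ : IrrCharacter G)
    (hover : Cfsg.classInner (fun n : N => (χ : G → ℂ) ⟨n, hNG n.2⟩) (θ : N → ℂ) ≠ 0) (x : Γ) :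
    conjBy G (χ : G → ℂ) x = χ := by
  classical
  have hNU : N ≤ U := hinf ▸ inf_le_right
  set NU := N.subgroupOf U with hNUdef
  set NG := N.subgroupOf G with hNGdef
  haveI : Fintype U := Fintype.ofFinite _
  haveI : Fintype NU := Fintype.ofFinite _
  haveI : Fintype NG := Fintype.ofFinite _
  let eU : NU ≃* N := Subgroup.subgroupOfEquivOfLe hNU
  let eG : NG ≃* N := Subgroup.subgroupOfEquivOfLe hNG
  set θU : IrrCharacter NU := irrCongr eU θ with hθU
  set θG : IrrCharacter NG := irrCongr eG θ with hθG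
  -- the extension of `θ` to `U`
  obtain ⟨φ, hφ, hφN⟩ := ExtensionCriteria.extends_of_cyclic NU θU.2
    (fun g n => congrFun (hθ (g : Γ)) (eU n)) hcyc
  have hφres : (fun n : NU => φ n) = (θU : NU → ℂ) := funext hφN
  have hθres : Cfsg.IsIrrCharacter NU fun n : NU => φ n := hφres ▸ θU.2
  have hdecomp : ∀ y : Γ, ∃ g ∈ G, ∃ u ∈ U, g * u = y := fun y =>
    CfsgLib.Coprime.exists_mul_of_mem_sup (by rw [Subgroup.normalizer_eq_top]; exact le_top)
      (show y ∈ G ⊔ U from htop ▸ Subgroup.mem_top y)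
  -- it is invariant
  have hφG : ∀ g ∈ G, conjBy U φ g = φ := by
    intro g hg
    obtain ⟨ν, hνN, hν⟩ := ExtensionCriteria.exists_twist NU hφ (isIrr_conjBy U hφ g) θU.2 hφN
      (fun n => (hφN ⟨⟨g * (n : U) * g⁻¹, hU.conj_mem _ (n : U).2 g⟩,
        hN.conj_mem _ n.2 g⟩).trans (congrFun (hθ g) (eU n)))
    have hνfix : ∀ u : U, ν ⟨g * u * g⁻¹, hU.conj_mem u u.2 g⟩ = ν u := fun u => by
      have hc : (u : Γ)⁻¹ * (g * u * g⁻¹) ∈ N := by
        rw [← hinf]
        refine ⟨?_, U.mul_mem (U.inv_mem u.2) (hU.conj_mem u u.2 g)⟩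
        simpa [mul_assoc] using G.mul_mem (hG.conj_mem g hg (u : Γ)⁻¹) (G.inv_mem hg)
      have h := hνN ⟨u⁻¹ * ⟨g * u * g⁻¹, hU.conj_mem u u.2 g⟩, hc⟩
      rw [map_mul, map_inv, inv_mul_eq_one] at h
      exact h.symm
    have hiter : ∀ i : ℕ, conjBy U φ (g ^ i) = fun u => ((ν u : ℂ) ^ i) * φ u := by
      intro i
      induction i with
      | zero => rw [pow_zero, conjBy_one]; simp
      | succ i ih =>
        rw [pow_succ, ← conjBy_mul, ih]
        funext u
        show ((ν ⟨g * u * g⁻¹, _⟩ : ℂ) ^ i) * conjBy U φ g u = _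
        rw [hνfix, hν, pow_succ]
        ring
    have hgi : g ^ N.relIndex G ∈ N := by
      have := Subgroup.pow_index_mem NG ⟨g, hg⟩
      simpa [hNGdef, Subgroup.relIndex, Subgroup.mem_subgroupOf] using this
    have h2 : conjBy U φ (g ^ N.relIndex G) = φ := funext fun u => by
      refine Eq.trans ?_ (isClassFunction_of_isIrr hφ u ⟨g ^ N.relIndex G, hNU hgi⟩)
      rfl
    rw [hiter] at h2
    let νq : U ⧸ NU →* ℂˣ := QuotientGroup.lift NU (ν ^ N.relIndex G) fun m hm => by
      show ν m ^ N.relIndex G = 1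
      rw [hνN ⟨m, hm⟩, one_pow]
    have h3 := Gallagher.prodInfl_injective NU hφ hθres
      (α := fun q : U ⧸ NU => (νq q : ℂ)) (β := fun _ => (1 : ℂ)) (isIrr_linChar νq) isIrr_one
      (funext fun u => by
        have h4 := congrFun h2 u
        simp only [Gallagher.prodInfl, νq, QuotientGroup.lift_mk, MonoidHom.pow_apply,
          Units.val_pow_eq_pow_val, mul_one]
        rw [mul_comm]; exact h4)
    have hνpow : ∀ u, ν u ^ N.relIndex G = 1 := fun u => Units.ext (by
      have := congrFun h3 (u : U ⧸ NU)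
      simpa [νq] using this)
    have hν1 : ν = 1 := TransferExtend.eq_one_of_coprime NU ν hνN hνpow hcop
    rw [hν, hν1]; simp
  have hφinv : ∀ y, conjBy U φ y = φ := fun y => by
    obtain ⟨g, hg, u, hu, rfl⟩ := hdecomp y
    rw [← conjBy_mul, hφG g hg]
    exact funext fun v => isClassFunction_of_isIrr hφ v ⟨u, hu⟩
  -- a character above
  obtain ⟨ξ, hξ, hξχ⟩ := Clifford.exists_over G χ.2
  obtain ⟨η, hη⟩ : ∃ η : IrrCharacter U,
      Cfsg.classInner (fun u : U => ξ u) (η : U → ℂ) ≠ 0 := by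
    by_contra h
    push Not at h
    refine irr_one_ne_zero hξ ?_
    have := congrFun (character_expansion (isCharacter_restrict U (isCharacter_of_isIrr hξ))) 1
    simpa [Finset.sum_apply, h] using this
  -- everything on `N` is a multiple of `θ`
  have hξθ : Cfsg.classInner (fun n : N => ξ n) (θ : N → ℂ) ≠ 0 :=
    classInner_ne_zero_trans (Subgroup.inclusion hNG) (isCharacter_restrict G (isCharacter_of_isIrr hξ))
      χ θ hξχ hover
  obtain ⟨eξ, -, hξres, -⟩ := Clifford.restrict_eq_smul N hξ θ.2 hθ hξθ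
  have hηθ : Cfsg.classInner (fun n : NU => (η : U → ℂ) n) (θU : NU → ℂ) ≠ 0 := by
    intro h0
    obtain ⟨δ, hδ⟩ : ∃ δ : IrrCharacter NU,
        Cfsg.classInner (fun n : NU => (η : U → ℂ) n) (δ : NU → ℂ) ≠ 0 := by
      by_contra h
      push Not at h
      refine irr_one_ne_zero η.2 ?_
      have := congrFun (character_expansion (isCharacter_restrict NU (isCharacter_of_isIrr η.2))) 1
      simpa [Finset.sum_apply, h] using this
    refine classInner_ne_zero_trans NU.subtype (isCharacter_restrict U (isCharacter_of_isIrr hξ))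
      η δ hη hδ ?_
    rw [show (fun n : NU => ξ ((NU.subtype n : U) : Γ)) = (eξ : ℂ) • (θU : NU → ℂ) from
      funext fun n => congrFun hξres (eU n), classInner_smul_left,
      classInner_isIrr_ne θU.2 δ.2 (fun e => hδ (by rw [← e]; exact h0)), mul_zero]
  obtain ⟨β, hβ, hηβ⟩ := Gallagher.exists_eq_prodInfl NU hφ hθres η.2
    (by rw [hφres]; exact hηθ)
  haveI : Fintype (U ⧸ NU) := Fintype.ofFinite _
  have hab : ∀ a b : U ⧸ NU, a * b = b * a := fun a b => by
    letI := hcyc.commGroup; exact mul_comm a b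
  have hηinv : ∀ y, conjBy U (η : U → ℂ) y = η := fun y => by
    obtain ⟨g, hg, u, hu, rfl⟩ := hdecomp y
    rw [← conjBy_mul]
    have hg' : conjBy U (η : U → ℂ) g = η := funext fun v => by
      show (η : U → ℂ) _ = _
      rw [hηβ]
      simp only [Gallagher.prodInfl]
      have hc : ((⟨g * v * g⁻¹, hU.conj_mem v v.2 g⟩ : U) : U ⧸ NU) = (v : U ⧸ NU) := by
        rw [eq_comm, QuotientGroup.eq]
        show (v : Γ)⁻¹ * (g * v * g⁻¹) ∈ N
        rw [← hinf]
        refine ⟨?_, U.mul_mem (U.inv_mem v.2) (hU.conj_mem v v.2 g)⟩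
        simpa [mul_assoc] using G.mul_mem (hG.conj_mem g hg (v : Γ)⁻¹) (G.inv_mem hg)
      rw [hc, show φ ⟨g * v * g⁻¹, hU.conj_mem v v.2 g⟩ = φ v from congrFun (hφG g hg) v]
    rw [hg']
    exact funext fun v => isClassFunction_of_isIrr η.2 v ⟨u, hu⟩
  obtain ⟨E, hE0, hEres, -⟩ := Clifford.restrict_eq_smul U hξ η.2 hηinv hη
  have hEdvd : E ∣ U.index := ExtensionCriteria.ramification_dvd_index U η.2
    (fun g n => congrFun (hηinv g) n) hξ hE0 hEres
  -- degrees
  obtain ⟨d, hd0, hd⟩ := exists_degree_pos θ.2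
  have hξd : ξ 1 = (E : ℂ) * d := by
    have h1 := congrFun hEres 1
    rw [Pi.smul_apply, smul_eq_mul, OneMemClass.coe_one] at h1
    rw [h1, hηβ]
    simp only [Gallagher.prodInfl, QuotientGroup.mk_one]
    rw [show β 1 = 1 from irr_degree_one_of_comm hab ⟨β, hβ⟩, mul_one, ← hd]
    congr 1
    exact (hφN 1).trans rfl
  have hθGinv : ∀ g : G, conjBy NG (θG : NG → ℂ) g = θG := fun g =>
    funext fun n => congrFun (hθ (g : Γ)) (eG n)
  obtain ⟨eχ, -, hχres, -⟩ := Clifford.restrict_eq_smul NG χ.2 θG.2 hθGinv (fun h0 => hover (by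
    rw [← h0]
    exact (classInner_comp eG (fun n : N => (χ : G → ℂ) ⟨n, hNG n.2⟩) (θ : N → ℂ)).symm))
  have hχd : (χ : G → ℂ) 1 = (eχ : ℂ) * d := by
    have h1 := congrFun hχres 1
    rw [Pi.smul_apply, smul_eq_mul, OneMemClass.coe_one] at h1
    rw [h1, ← hd]
    rfl
  obtain ⟨k, hk⟩ := classInner_character_irr
    (isCharacter_restrict G (isCharacter_of_isIrr hξ)) χ.2
  set t := (Clifford.orbit G (χ : G → ℂ)).card with ht
  have h1 := congrFun (Clifford.restrict_eq_orbit_sum G hξ χ.2 hξχ) 1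
  have h2 : (∑ ψ ∈ Clifford.orbit G (χ : G → ℂ), ψ) 1 = (t : ℂ) * ((eχ : ℂ) * d) := by
    rw [Finset.sum_apply, Finset.sum_congr rfl fun ψ hψ => ?_, Finset.sum_const, nsmul_eq_mul]
    obtain ⟨y, rfl⟩ := (Clifford.mem_orbit G).1 hψ
    rw [← hχd]
    exact congrArg (χ : G → ℂ) (Subtype.ext (by simp))
  rw [Pi.smul_apply, h2, hk, OneMemClass.coe_one, hξd, smul_eq_mul] at h1
  have htE : t ∣ E := by
    refine ⟨k * eχ, ?_⟩
    have hd' : (d : ℂ) ≠ 0 := Nat.cast_ne_zero.2 hd0.ne'
    have : (E : ℂ) = ((t * (k * eχ) : ℕ) : ℂ) := by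
      refine mul_right_cancel₀ hd' ?_
      rw [h1]; push_cast; ring
    exact_mod_cast this
  have hidxU : U.index = N.relIndex G := by
    rw [← Subgroup.relIndex_top_right U, ← htop, Subgroup.relIndex_sup_right, ← hinf,
      inf_comm G U, Subgroup.inf_relIndex_right]
  have hidxG : G.index = N.relIndex U := by
    rw [← Subgroup.relIndex_top_right G, ← htop, sup_comm, Subgroup.relIndex_sup_right, ← hinf,
      Subgroup.inf_relIndex_right]
  let T : Subgroup Γ :=
    { carrier := {g | conjBy G (χ : G → ℂ) g = χ}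
      one_mem' := conjBy_one G _
      mul_mem' := fun {a b} ha hb => by
        show conjBy G _ _ = _
        rw [← conjBy_mul, ha, hb]
      inv_mem' := fun {a} ha => by
        show conjBy G _ _ = _
        conv_lhs => rw [← (ha : conjBy G (χ : G → ℂ) a = χ)]
        rw [conjBy_mul, mul_inv_cancel, conjBy_one] }
  have hT := Clifford.card_orbit_mul G (χ : G → ℂ) T fun g => Iff.rfl
  have hGT : G ≤ T := fun y hy => funext fun n => isClassFunction_of_isIrr χ.2 n ⟨y, hy⟩
  obtain ⟨j, hj⟩ := Subgroup.card_dvd_of_le hGT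
  have ht2 : t ∣ G.index := by
    refine ⟨j, Nat.eq_of_mul_eq_mul_left (Nat.card_pos (α := G)) ?_⟩
    rw [Subgroup.card_mul_index, ← hT, hj]
    ring
  have ht1 : t = 1 := Nat.eq_one_of_dvd_coprimes hcop (hidxG ▸ ht2)
    (hidxU ▸ (htE.trans hEdvd))
  obtain ⟨ψ, hψ⟩ := Finset.card_eq_one.1 ht1
  have e1 : conjBy G (χ : G → ℂ) x ∈ Clifford.orbit G (χ : G → ℂ) :=
    (Clifford.mem_orbit G).2 ⟨x, rfl⟩
  have e2 : (χ : G → ℂ) ∈ Clifford.orbit G (χ : G → ℂ) :=
    (Clifford.mem_orbit G).2 ⟨1, conjBy_one G _⟩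
  rw [hψ, Finset.mem_singleton] at e1 e2
  rw [e1, ← e2]

end CfsgLib.Glauberman.CentralSection
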