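import Cfsg.Agent.S4445
import Cfsg.Agent.S0867
import Cfsg.Agent.Glauberman.Constituent

/-!
# Characters of degree coprime to a solvable complement

For `G = K H` with `K` normal, `H` solvable of coprime order, the irreducible characters of degree
prime to `|H|` number (classes of `C_K(H)`) times (linear characters of `H`).
-/

set_option autoImplicit false
set_option linter.style.haveILetI false
set_option linter.unusedSectionVars false

namespace CfsgLib.Glauberman.CoprimeMcKay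

open Cfsg CfsgLib.Characters CfsgLib.OddOrderChar CfsgLib.CharactersDeep
open scoped Pointwise

variable {G : Type*} [Group G] [Finite G] (K H : Subgroup G) [hKn : K.Normal]
  (hKH : K ⊔ H = ⊤) (hcop : (Nat.card K).Coprime (Nat.card H)) (hsolv : Group.IsSolvable H)

include hKn in
theorem le_normalizer_normal : H ≤ Subgroup.normalizer (K : Set G) := by
  rw [Subgroup.normalizer_eq_top]; exact le_top

/-- Invariant characters. -/
abbrev InvK : Type _ :=
  {θ : IrrCharacter K // ∀ s ∈ H, ∀ g g' : K, (g' : G) = s * g * s⁻¹ →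
    (θ : K → ℂ) g' = (θ : K → ℂ) g}

include hKn hcop hsolv in
theorem card_invK : Nat.card (InvK K H) =
    Nat.card (ConjClasses (K ⊓ Subgroup.centralizer (H : Set G) : Subgroup G)) := by
  classical
  haveI := Fintype.ofFinite G
  haveI := Fintype.ofFinite K
  rw [Cfsg.Agent.S4445.result K H (fun s _ g hg => hKn.conj_mem g hg s) hcop hsolv]
  set C := K ⊓ Subgroup.centralizer (H : Set G) with hC
  let ι : C →* K := Subgroup.inclusion inf_le_left
  letI : MulAction G G := MulAction.compHom _ (MulAut.conj : G →* MulAut G)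
  have hfix : ∀ (c : C), ∀ s ∈ H, s * (c : G) * s⁻¹ = c := fun c s hs => by
    rw [(Subgroup.mem_centralizer_iff.1 c.2.2) s hs, mul_inv_cancel_right]
  refine (Nat.card_eq_of_bijective (fun κ : ConjClasses C => (⟨ConjClasses.map ι κ, ?_⟩ :
    {κ : ConjClasses K // ∀ s ∈ H, ∀ g g' : K, (g' : G) = s * g * s⁻¹ →
      ConjClasses.mk g = κ → ConjClasses.mk g' = κ})) ⟨?_, ?_⟩).symm
  · obtain ⟨c, rfl⟩ := ConjClasses.mk_surjective κ
    intro s hs g g' hg hgc
    obtain ⟨u, hu⟩ := isConj_iff.1 (ConjClasses.mk_eq_mk_iff_isConj.1 hgc)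
    refine ConjClasses.mk_eq_mk_iff_isConj.2 (isConj_iff.2
      ⟨⟨s * u * s⁻¹, hKn.conj_mem u u.2 s⟩, Subtype.ext ?_⟩)
    have h1 : (u : G) * g * (u : G)⁻¹ = c := congrArg Subtype.val hu
    show s * u * s⁻¹ * (g' : G) * (s * u * s⁻¹)⁻¹ = c
    rw [hg, ← hfix c s hs, ← h1]
    group
  · intro κ κ' h
    obtain ⟨c, rfl⟩ := ConjClasses.mk_surjective κ
    obtain ⟨c', rfl⟩ := ConjClasses.mk_surjective κ'
    obtain ⟨u, hu⟩ := isConj_iff.1 (ConjClasses.mk_eq_mk_iff_isConj.1 (congrArg Subtype.val h :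
      ConjClasses.map ι (ConjClasses.mk c) = ConjClasses.map ι (ConjClasses.mk c')))
    obtain ⟨x, hx, hxc⟩ := CfsgLib.Coprime.exists_conj_fixed_of_transitive (A := H) (G := K)
      (le_normalizer_normal K H) hcop.symm (Or.inl hsolv) (Ω := G) (x := (c : G)) (y := (c' : G))
      (fun s hs => hfix c s hs) (fun s hs => hfix c' s hs) u.2 (congrArg Subtype.val hu)
    exact ConjClasses.mk_eq_mk_iff_isConj.2 (isConj_iff.2 ⟨⟨x, hx⟩, Subtype.ext hxc⟩)
  · rintro ⟨κ, hκ⟩
    obtain ⟨k, rfl⟩ := ConjClasses.mk_surjective κ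
    obtain ⟨x, ⟨u, hu, rfl⟩, hfx⟩ := CfsgLib.Coprime.exists_fixed_of_transitive (A := H) (G := K)
      (le_normalizer_normal K H) hcop.symm (Or.inl hsolv) (Ω := G)
      {x | ∃ u ∈ K, x = u * k * u⁻¹} ⟨k, 1, one_mem _, by simp⟩
      (by
        rintro s hs _ ⟨u, hu, rfl⟩
        obtain ⟨v, hv⟩ := isConj_iff.1 (ConjClasses.mk_eq_mk_iff_isConj.1
          (hκ s hs k ⟨s * k * s⁻¹, hKn.conj_mem k k.2 s⟩ rfl rfl))
        refine ⟨s * u * s⁻¹ * (v : G)⁻¹, K.mul_mem (hKn.conj_mem u hu s) (K.inv_mem v.2), ?_⟩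
        have h1 : (v : G) * (s * k * s⁻¹) * (v : G)⁻¹ = k := congrArg Subtype.val hv
        show s * (u * k * u⁻¹) * s⁻¹ = _
        conv_rhs => rw [← h1]
        group)
      (by
        rintro g hg _ ⟨u, hu, rfl⟩
        exact ⟨g * u, K.mul_mem hg hu, show g * (u * k * u⁻¹) * g⁻¹ = _ by group⟩)
      (by
        rintro _ ⟨u, hu, rfl⟩ _ ⟨v, hv, rfl⟩
        exact ⟨v * u⁻¹, K.mul_mem hv (K.inv_mem hu),
          show v * u⁻¹ * (u * k * u⁻¹) * (v * u⁻¹)⁻¹ = _ by group⟩)
    have hmem : u * k * u⁻¹ ∈ C := ⟨K.mul_mem (K.mul_mem hu k.2) (K.inv_mem hu),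
      Subgroup.mem_centralizer_iff.2 fun s hs => mul_inv_eq_iff_eq_mul.1 (hfx s hs)⟩
    refine ⟨ConjClasses.mk ⟨_, hmem⟩, Subtype.ext ?_⟩
    exact ConjClasses.mk_eq_mk_iff_isConj.2 (isConj_iff.2 ⟨⟨u, hu⟩, Subtype.ext rfl⟩).symm

include hKn hKH hcop hsolv in
/-- The count. -/
theorem card_coprime_degree :
    Nat.card {χ : IrrCharacter G // (Cfsg.charDegree (χ : G → ℂ)).Coprime (Nat.card H)} =
      Nat.card (ConjClasses (K ⊓ Subgroup.centralizer (H : Set G) : Subgroup G)) *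
        Nat.card (H →* ℂˣ) := by
  classical
  haveI := Fintype.ofFinite G
  haveI := Fintype.ofFinite K
  haveI := Fintype.ofFinite (G ⧸ K)
  let π : H →* G ⧸ K := (QuotientGroup.mk' K).comp H.subtype
  have hπ : Function.Bijective π := by
    constructor
    · rw [← MonoidHom.ker_eq_bot_iff, eq_bot_iff]
      intro h hh
      have h1 : (h : G) ∈ K ⊓ H := ⟨(QuotientGroup.eq_one_iff _).1 hh, h.2⟩
      rw [CfsgLib.Coprime.inf_eq_bot_of_coprime hcop, Subgroup.mem_bot] at h1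
      exact Subgroup.mem_bot.2 (Subtype.ext h1)
    · intro q
      obtain ⟨g, rfl⟩ := QuotientGroup.mk_surjective q
      obtain ⟨k, hk, h, hh, rfl⟩ := CfsgLib.Coprime.exists_mul_of_mem_sup
        (le_normalizer_normal K H) (show g ∈ K ⊔ H from hKH ▸ Subgroup.mem_top g)
      exact ⟨⟨h, hh⟩, by simp [π, (QuotientGroup.eq_one_iff k).2 hk]⟩
  let e : H ≃* G ⧸ K := MulEquiv.ofBijective π hπ
  have hidx : K.index = Nat.card H := by
    rw [Subgroup.index_eq_card, ← Nat.card_congr e.toEquiv]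
  rw [← card_invK K H hcop hsolv, ← Nat.card_prod]
  have hinvG : ∀ θ : InvK K H, ∀ (g : G) (n : K),
      (θ.1 : K → ℂ) ⟨g * n * g⁻¹, hKn.conj_mem n n.2 g⟩ = (θ.1 : K → ℂ) n := by
    rintro ⟨θ, hθ⟩ g n
    obtain ⟨k, hk, h, hh, rfl⟩ := CfsgLib.Coprime.exists_mul_of_mem_sup
      (le_normalizer_normal K H) (show g ∈ K ⊔ H from hKH ▸ Subgroup.mem_top g)
    rw [← hθ h hh n ⟨h * n * h⁻¹, hKn.conj_mem n n.2 h⟩ rfl]
    exact (congrArg (θ : K → ℂ) (Subtype.ext (by simp [mul_assoc]))).trans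
      (isClassFunction_of_isIrr θ.2 ⟨h * n * h⁻¹, hKn.conj_mem n n.2 h⟩ ⟨k, hk⟩)
  have hdeg : ∀ θ : InvK K H, ∃ d : ℕ, (θ.1 : K → ℂ) 1 = d ∧ d.Coprime (Nat.card H) ∧
      Nat.Coprime K.index (Cfsg.detOrder (θ.1 : K → ℂ) * d) := by
    intro θ
    obtain ⟨m, ρ, hρ, hρθ⟩ := θ.1.2
    have hm : (θ.1 : K → ℂ) 1 = (m : ℂ) := by
      rw [← hρθ, Representation.char_one, Module.finrank_fin_fun]
    haveI := hρ
    have hdd : m ∣ Nat.card K := by simpa using finrank_dvd_card ρ
    have hdo : Cfsg.detOrder (θ.1 : K → ℂ) ∣ Nat.card K := by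
      rw [← hρθ, LinearChar.detOrder_eq]
      refine orderOf_dvd_of_pow_eq_one (MonoidHom.ext fun x => ?_)
      rw [MonoidHom.pow_apply, ← map_pow, pow_card_eq_one', map_one, MonoidHom.one_apply]
    refine ⟨m, hm, hcop.coprime_dvd_left hdd, ?_⟩
    rw [hidx]
    exact Nat.Coprime.mul_right (hcop.symm.coprime_dvd_right hdo) (hcop.symm.coprime_dvd_right hdd)
  choose d hd hdcop hdo using hdeg
  choose χh hχh huniq using fun θ : InvK K H =>
    Cfsg.Agent.S0867.result K (θ.1 : K → ℂ) θ.1.2 (hinvG θ) (d θ) (hd θ) (hdo θ)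
  have hres : ∀ θ : InvK K H, Cfsg.IsIrrCharacter K fun n : K => χh θ n := fun θ => by
    rw [show (fun n : K => χh θ n) = (θ.1 : K → ℂ) from funext (hχh θ).2.1]; exact θ.1.2
  let inf : (H →* ℂˣ) → G →* ℂˣ := fun l => (l.comp e.symm.toMonoidHom).comp (QuotientGroup.mk' K)
  have hinf : ∀ (l : H →* ℂˣ) (n : K), inf l n = 1 := fun l n => by
    simp [inf, (QuotientGroup.eq_one_iff (n : G)).2 n.2]
  refine (Nat.card_eq_of_bijective (fun p : InvK K H × (H →* ℂˣ) =>
    (⟨⟨_, isIrr_mul_hom (hχh p.1).1 (inf p.2)⟩, ?_⟩ :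
      {χ : IrrCharacter G // (Cfsg.charDegree (χ : G → ℂ)).Coprime (Nat.card H)})) ⟨?_, ?_⟩).symm
  · have h1 : χh p.1 1 * (inf p.2 1 : ℂ) = d p.1 := by
      rw [map_one, Units.val_one, mul_one]
      exact ((hχh p.1).2.1 1).trans (hd p.1)
    show Nat.Coprime (Cfsg.charDegree _) _
    rw [Cfsg.charDegree]
    simp only [h1, Complex.natCast_re, Nat.floor_natCast]
    exact hdcop p.1
  · rintro ⟨θ, l⟩ ⟨θ', l'⟩ h
    have h0 : ∀ g : G, χh θ g * (inf l g : ℂ) = χh θ' g * (inf l' g : ℂ) := fun g =>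
      congrFun (congrArg Subtype.val (congrArg Subtype.val h)) g
    have hθ : θ = θ' := Subtype.ext (Subtype.ext (funext fun n => by
      have := h0 n
      rwa [hinf, hinf, (hχh θ).2.1, (hχh θ').2.1, Units.val_one, mul_one, mul_one] at this))
    subst hθ
    have hl := Gallagher.prodInfl_injective K (hχh θ).1 (hres θ)
      (α := fun q : G ⧸ K => ((l (e.symm q) : ℂˣ) : ℂ))
      (β := fun q : G ⧸ K => ((l' (e.symm q) : ℂˣ) : ℂ))
      (isIrr_linChar (l.comp e.symm.toMonoidHom)) (isIrr_linChar (l'.comp e.symm.toMonoidHom))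
      (funext h0)
    refine Prod.ext rfl (MonoidHom.ext fun x => Units.ext ?_)
    have := congrFun hl (e x)
    simpa using this
  · rintro ⟨χ, hχc⟩
    obtain ⟨θ, hθne⟩ : ∃ θ : IrrCharacter K,
        Cfsg.classInner (fun n : K => (χ : G → ℂ) n) (θ : K → ℂ) ≠ 0 := by
      by_contra h
      push Not at h
      refine irr_one_ne_zero χ.2 ?_
      have := congrFun (character_expansion (isCharacter_restrict K (isCharacter_of_isIrr χ.2))) 1
      simpa [Finset.sum_apply, h] using this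
    obtain ⟨a, -, ha⟩ := exists_degree_pos χ.2
    have hac : a.Coprime (Nat.card H) := by simpa [Cfsg.charDegree, ha] using hχc
    -- the orbit is trivial
    have hinv : ∀ g, conjBy K (θ : K → ℂ) g = θ := by
      obtain ⟨k, hk⟩ := classInner_character_irr
        (isCharacter_restrict K (isCharacter_of_isIrr χ.2)) θ.2
      obtain ⟨b, -, hb⟩ := exists_degree_pos θ.2
      have h1 := congrFun (Clifford.restrict_eq_orbit_sum K χ.2 θ.2 hθne) 1
      have h2 : (∑ φ ∈ Clifford.orbit K (θ : K → ℂ), φ) 1 =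
          ((Clifford.orbit K (θ : K → ℂ)).card : ℂ) * b := by
        rw [Finset.sum_apply, Finset.sum_congr rfl fun φ hφ => ?_, Finset.sum_const, nsmul_eq_mul]
        obtain ⟨g, rfl⟩ := (Clifford.mem_orbit K).1 hφ
        rw [← hb]
        exact congrArg (θ : K → ℂ) (Subtype.ext (by simp))
      rw [Pi.smul_apply, h2, hk, OneMemClass.coe_one, ha, smul_eq_mul, ← Nat.cast_mul,
        ← Nat.cast_mul, Nat.cast_inj] at h1
      let T : Subgroup G :=
        { carrier := {g | conjBy K (θ : K → ℂ) g = θ}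
          one_mem' := conjBy_one K _
          mul_mem' := fun {a b} ha hb => by
            show conjBy K _ _ = _
            rw [← conjBy_mul, ha, hb]
          inv_mem' := fun {a} ha => by
            show conjBy K _ _ = _
            conv_lhs => rw [← (ha : conjBy K (θ : K → ℂ) a = θ)]
            rw [conjBy_mul, mul_inv_cancel, conjBy_one] }
      have hT := Clifford.card_orbit_mul K (θ : K → ℂ) T fun g => Iff.rfl
      have hKT : K ≤ T := fun x hx => funext fun n => by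
        exact (congrArg (θ : K → ℂ) (Subtype.ext (by simp))).trans
          (isClassFunction_of_isIrr θ.2 n ⟨x, hx⟩)
      obtain ⟨j, hj⟩ := Subgroup.card_dvd_of_le hKT
      have ht1 : (Clifford.orbit K (θ : K → ℂ)).card ∣ Nat.card H := by
        refine ⟨j, Nat.eq_of_mul_eq_mul_left (Nat.card_pos (α := K)) ?_⟩
        rw [← hidx, Subgroup.card_mul_index, ← hT, hj]
        ring
      have ht2 : (Clifford.orbit K (θ : K → ℂ)).card ∣ a := by
        rw [h1]; exact dvd_mul_of_dvd_right (Dvd.intro _ rfl) _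
      have ht : (Clifford.orbit K (θ : K → ℂ)).card = 1 :=
        Nat.eq_one_of_dvd_coprimes hac ht2 ht1
      intro g
      obtain ⟨φ, hφ⟩ := Finset.card_eq_one.1 ht
      have e1 : conjBy K (θ : K → ℂ) g ∈ Clifford.orbit K (θ : K → ℂ) :=
        (Clifford.mem_orbit K).2 ⟨g, rfl⟩
      have e2 : (θ : K → ℂ) ∈ Clifford.orbit K (θ : K → ℂ) :=
        (Clifford.mem_orbit K).2 ⟨1, conjBy_one K _⟩
      rw [hφ, Finset.mem_singleton] at e1 e2
      rw [e1, ← e2]
    obtain ⟨m, hm0, hmθ, -⟩ := Clifford.restrict_eq_smul K χ.2 θ.2 hinv hθne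
    have hinv' : ∀ (g : G) (n : K),
        (θ : K → ℂ) ⟨g * n * g⁻¹, hKn.conj_mem n n.2 g⟩ = (θ : K → ℂ) n := fun g n =>
      congrFun (hinv g) n
    have hm1 : m = 1 := by
      refine Nat.eq_one_of_dvd_coprimes hac ?_ (hidx ▸
        ExtensionCriteria.ramification_dvd_index K θ.2 hinv' χ.2 hm0 hmθ)
      obtain ⟨b, -, hb⟩ := exists_degree_pos θ.2
      have h1 := congrFun hmθ 1
      rw [OneMemClass.coe_one, ha, Pi.smul_apply, hb, smul_eq_mul, ← Nat.cast_mul, Nat.cast_inj]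
        at h1
      exact ⟨b, h1⟩
    rw [hm1, Nat.cast_one, one_smul] at hmθ
    let θ' : InvK K H := ⟨θ, fun s hs g g' hg => by
      rw [← hinv' s g]
      exact congrArg (θ : K → ℂ) (Subtype.ext hg)⟩
    obtain ⟨ν, hνK, hν⟩ := ExtensionCriteria.exists_twist K (hχh θ').1 χ.2 θ.2 (hχh θ').2.1
      (congrFun hmθ)
    refine ⟨(θ', ν.comp H.subtype), Subtype.ext (Subtype.ext (funext fun g => ?_))⟩
    show χh θ' g * (ν ((e.symm (g : G ⧸ K) : H) : G) : ℂ) = (χ : G → ℂ) g
    have hq : ((e.symm (g : G ⧸ K) : G) : G ⧸ K) = (g : G ⧸ K) := e.apply_symm_apply _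
    have hg : ν ((e.symm (g : G ⧸ K) : H) : G) = ν g := by
      have h2 := hνK ⟨_, QuotientGroup.eq.1 hq⟩
      rwa [map_mul, map_inv, inv_mul_eq_one] at h2
    rw [hg, hν]
    ring

end CfsgLib.Glauberman.CoprimeMcKay
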