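import Cfsg.Agent.Glauberman.CyclicSetting

/-!
# The cyclic correspondence when all non-identity elements have the same fixed points
-/

set_option autoImplicit false
set_option linter.style.haveILetI false
set_option linter.unusedSectionVars false

namespace CfsgLib.Glauberman.CyclicSign

open Cfsg CfsgLib.Characters
open scoped ComplexConjugate

variable {Γ : Type*} [Group Γ] [Fintype Γ] {G : Subgroup Γ} [hG : G.Normal] [Fintype G]
  (hcop : (Nat.card G).Coprime G.index) (C : Subgroup Γ) [Fintype C] (hCG : C ≤ G)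
  {s : Γ} (hs : orderOf s = G.index)
  (hC : ∀ m : ℕ, s ^ m ≠ 1 → ∀ g ∈ G, g ∈ C ↔ s ^ m * g = g * s ^ m)
  (hsC : ∀ c ∈ C, s * c = c * s)
  {χ : G → ℂ} (hχ : Cfsg.IsIrrCharacter G χ) {χh : Γ → ℂ} (h : IsCan G χ χh)
  (β : IrrCharacter C) {ε₀ : ℤ} (hε₀ : ε₀ = 1 ∨ ε₀ = -1)
  (hβ : ∀ c : C, χh ((c : Γ) * s) = (ε₀ : ℂ) * (β : C → ℂ) c)

include hcop hCG hs hC hsC hχ h hε₀ hβ in
theorem exists_signs : ∃ ε u : ℤ, (ε = 1 ∨ ε = -1) ∧ (u = 1 ∨ u = -1) ∧ u ^ orderOf s = 1 ∧
    (∀ m : ℕ, s ^ m ≠ 1 → ∀ c : C, χh ((c : Γ) * s ^ m) =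
      (ε : ℂ) * (β : C → ℂ) c * ((u : ℂ) ^ m)) ∧
    ∃ k : IrrCharacter C → ℕ, (fun c : C => χ ⟨c, hCG c.2⟩) = fun c => (orderOf s : ℂ) *
      (∑ γ : IrrCharacter C, (k γ : ℂ) • (γ : C → ℂ)) c + (ε : ℂ) * (β : C → ℂ) c := by
  classical
  set n := orderOf s with hn
  have hn0 : 0 < n := orderOf_pos s
  have hpow : ∀ m : ℕ, (s ^ m) ^ G.index = 1 := fun m => by
    rw [← hs, hn, ← pow_mul, mul_comm, pow_mul, pow_orderOf_eq_one, one_pow]
  have hs1 : s ^ G.index = 1 := by simpa using hpow 1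
  choose d z a hz hv _ hd using exists_roots hcop C hCG hs1 hsC hχ h
  have hint : ∀ γ i, IsIntegral ℤ (z γ i) := fun γ i =>
    IsIntegral.of_pow hn0 (by rw [hz]; exact isIntegral_one)
  -- the integers at each power
  have hunit : ∀ m : ℕ, s ^ m ≠ 1 → ∃ (δ : IrrCharacter C) (e : ℤ), (e = 1 ∨ e = -1) ∧
      ∀ c : C, χh ((c : Γ) * s ^ m) = (e : ℂ) * (δ : C → ℂ) c := fun m hm =>
    exists_unit_coeff hcop C hCG (hpow m) (hC m hm) hχ h
  have hval : ∀ m (δ : IrrCharacter C) (e : ℤ),
      (∀ c : C, χh ((c : Γ) * s ^ m) = (e : ℂ) * (δ : C → ℂ) c) → ∀ γ : IrrCharacter C,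
      ∑ i, z γ i ^ m = ((if δ = γ then e else 0 : ℤ) : ℂ) := fun m δ e hm γ => by
    rw [← hv, show slice C χh (s ^ m) = (e : ℂ) • (δ : C → ℂ) from funext hm,
      classInner_smul_left, classInner_irr]
    split_ifs <;> simp
  -- one step
  have hstep : ∀ (m p : ℕ) (e : ℤ), p.Prime → s ^ m ≠ 1 → s ^ (m * p) ≠ 1 → (e = 1 ∨ e = -1) →
      (∀ c : C, χh ((c : Γ) * s ^ m) = (e : ℂ) * (β : C → ℂ) c) →
      ∃ e' : ℤ, (e' = 1 ∨ e' = -1) ∧ (p ≠ 2 → e' = e) ∧
        ∀ c : C, χh ((c : Γ) * s ^ (m * p)) = (e' : ℂ) * (β : C → ℂ) c := by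
    intro m p e hp hm hmp he hme
    obtain ⟨δ, e', he', hδ⟩ := hunit (m * p) hmp
    have hdiv : (p : ℤ) ∣ (if δ = β then e' else 0) - e := by
      refine RootSums.prime_dvd_sub Finset.univ (fun i => z β i ^ m) (fun i => (hint β i).pow m) hp
        (f := e) ?_ ?_
      · rw [hval m β e hme β, if_pos rfl]
      · simp only [← pow_mul]
        exact hval _ δ e' hδ β
    have hp2 := hp.two_le
    have hδβ : δ = β := by
      by_contra hne
      rw [if_neg hne, zero_sub, dvd_neg] at hdiv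
      have := Int.le_of_dvd (by norm_num : (0 : ℤ) < 1) (by rcases he with rfl | rfl
                                                            · exact hdiv
                                                            · exact dvd_neg.1 hdiv)
      omega
    subst hδβ
    rw [if_pos rfl] at hdiv
    refine ⟨e', he', fun hp' => ?_, hδ⟩
    by_contra hne
    have : (p : ℤ) ∣ 2 := by
      rcases he with rfl | rfl <;> rcases he' with rfl | rfl
      · exact absurd rfl hne
      · simpa using hdiv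
      · simpa using hdiv
      · exact absurd rfl hne
    exact hp' ((Nat.prime_dvd_prime_iff_eq hp Nat.prime_two).1 (by exact_mod_cast this))
  -- the signs
  have hodd : ∀ m j : ℕ, ∀ e : ℤ, Odd m → s ^ (j * m) ≠ 1 → (e = 1 ∨ e = -1) →
      (∀ c : C, χh ((c : Γ) * s ^ j) = (e : ℂ) * (β : C → ℂ) c) →
      ∀ c : C, χh ((c : Γ) * s ^ (j * m)) = (e : ℂ) * (β : C → ℂ) c := by
    intro m
    induction m using Nat.strong_induction_on with
    | _ m ih =>
      intro j e hm hne he hj
      rcases Nat.eq_or_lt_of_le (hm.pos : 1 ≤ m) with h1 | h1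
      · rw [show m = 1 from h1.symm, mul_one]; exact hj
      · have hp := Nat.minFac_prime (Nat.ne_of_gt h1)
        obtain ⟨m', hm'⟩ := Nat.minFac_dvd m
        have hodd' : Odd m' := (Nat.odd_mul.1 (hm' ▸ hm)).2
        have hne' : s ^ (j * m') ≠ 1 := fun h0 => hne (by
          rw [hm', show j * (m.minFac * m') = j * m' * m.minFac by ring, pow_mul, h0, one_pow])
        have hlt : m' < m := by
          rw [hm']; exact lt_mul_of_one_lt_left hodd'.pos hp.one_lt
        obtain ⟨e', -, he'', hc⟩ := hstep (j * m') m.minFac e hp hne'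
          (by rwa [show j * m' * m.minFac = j * m by rw [mul_assoc, mul_comm m' m.minFac, ← hm']]) he
          (ih m' hlt j e hodd' hne' he hj)
        have := he'' (fun h2 => by
          have : 2 ∣ m := h2 ▸ Nat.minFac_dvd m
          exact (Nat.not_even_iff_odd.2 hm) (even_iff_two_dvd.2 this))
        rw [this, show j * m' * m.minFac = j * m by rw [mul_assoc, mul_comm m' m.minFac, ← hm']] at hc
        exact hc
  obtain ⟨ε, hε, hεn, hε2⟩ : ∃ ε : ℤ, (ε = 1 ∨ ε = -1) ∧ (n = 1 → ε = -1) ∧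
      (s ^ 2 ≠ 1 → ∀ c : C, χh ((c : Γ) * s ^ 2) = (ε : ℂ) * (β : C → ℂ) c) ∧
        (n = 2 → ε = ε₀) := by
    by_cases h1 : s ^ 2 = 1
    · have hn2 : n ≤ 2 := Nat.le_of_dvd (by norm_num) (orderOf_dvd_of_pow_eq_one h1)
      by_cases h2 : n = 1
      · exact ⟨-1, Or.inr rfl, fun _ => rfl, fun h => absurd h1 h, fun h => by omega⟩
      · exact ⟨ε₀, hε₀, fun h => absurd h h2, fun h => absurd h1 h, fun _ => rfl⟩
    · have h0 : s ^ 1 ≠ 1 := fun h => h1 (by rw [pow_one] at h; rw [h, one_pow])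
      obtain ⟨e, he, -, hc⟩ := hstep 1 2 ε₀ Nat.prime_two h0 (by simpa using h1) hε₀
        (fun c => by rw [pow_one]; exact hβ c)
      refine ⟨e, he, fun h => ?_, fun _ c => by simpa using hc c, fun h => ?_⟩
      · exact absurd (by rw [← h, hn, pow_orderOf_eq_one]) h0
      · exact absurd (by rw [← h, hn, pow_orderOf_eq_one]) h1
  obtain ⟨hε2, hn2⟩ := hε2
  -- all powers
  have hall : ∀ m : ℕ, s ^ m ≠ 1 → ∀ c : C,
      χh ((c : Γ) * s ^ m) = ((if Odd m then ε₀ else ε : ℤ) : ℂ) * (β : C → ℂ) c := by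
    intro m
    induction m using Nat.strong_induction_on with
    | _ m ih =>
      intro hm
      by_cases ho : Odd m
      · rw [if_pos ho]
        simpa using hodd m 1 ε₀ ho (by simpa using hm) hε₀ (fun c => by rw [pow_one]; exact hβ c)
      · rw [if_neg ho]
        obtain ⟨m', rfl⟩ := (Nat.not_odd_iff_even.1 ho).two_dvd
        have h2ne : s ^ 2 ≠ 1 := fun h0 => hm (by rw [pow_mul, h0, one_pow])
        by_cases ho' : Odd m'
        · exact hodd m' 2 ε ho' hm hε (hε2 h2ne)
        · obtain ⟨q, rfl⟩ := (Nat.not_odd_iff_even.1 ho').two_dvd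
          have hq0 : q ≠ 0 := fun h0 => hm (by simp [h0])
          have hq2 : s ^ (2 * q) ≠ 1 := fun h0 => hm (by
            rw [show 2 * (2 * q) = 2 * q * 2 by ring, pow_mul, h0, one_pow])
          have hq1 : s ^ q ≠ 1 := fun h0 => hq2 (by rw [mul_comm, pow_mul, h0, one_pow])
          have hv1 := ih q (by omega) hq1
          have hv2 := ih (2 * q) (by omega) hq2
          rw [if_neg (by simp)] at hv2
          obtain ⟨e, he, -, hc⟩ := hstep (2 * q) 2 ε Nat.prime_two hq2
            (by rwa [show 2 * q * 2 = 2 * (2 * q) by ring]) hε hv2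
          rw [show 2 * q * 2 = 2 * (2 * q) by ring] at hc
          have hee : e = ε := by
            refine RootSums.sum_four_eq_sum_two Finset.univ (fun i => z β i ^ q)
              (fun i => (hint β i).pow q) (f := if Odd q then ε₀ else ε) (g := ε) (k := e)
              (by split_ifs <;> assumption) hε he ?_ ?_ ?_
            · rw [hval q β _ hv1 β, if_pos rfl]
            · simp only [← pow_mul]
              rw [mul_comm q 2, hval _ β _ hv2 β, if_pos rfl]
            · simp only [← pow_mul]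
              rw [show q * 4 = 2 * (2 * q) by ring, hval _ β _ hc β, if_pos rfl]
          exact hee ▸ hc
  -- odd order
  have hoddn : Odd n → n ≠ 1 → ε = ε₀ := fun ho h1 => by
    have hne : s ^ (n + 1) ≠ 1 := by
      rw [pow_succ, hn, pow_orderOf_eq_one, one_mul]
      exact fun h => h1 (orderOf_eq_one_iff.2 h)
    have := hall (n + 1) hne 1
    rw [if_neg (Nat.not_odd_iff_even.2 ho.add_one), pow_succ, hn, pow_orderOf_eq_one, one_mul,
      hβ] at this
    exact (Int.cast_injective (α := ℂ) (mul_right_cancel₀ (irr_one_ne_zero β.2) this)).symm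
  set u : ℤ := if n = 1 then 1 else ε₀ * ε with hu
  have hu1 : u = 1 ∨ u = -1 := by
    rw [hu]; split_ifs
    · exact Or.inl rfl
    · rcases hε₀ with rfl | rfl <;> rcases hε with rfl | rfl <;> norm_num
  have hu2 : u * u = 1 := by rcases hu1 with e | e <;> rw [e] <;> norm_num
  have hun : u ^ n = 1 := by
    rcases Nat.even_or_odd n with ⟨r, hr⟩ | ho
    · rw [hr, pow_add, ← mul_pow, hu2, one_pow]
    · by_cases h1 : n = 1
      · rw [hu, if_pos h1, one_pow]
      · rw [hu, if_neg h1, hoddn ho h1]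
        rcases hε₀ with rfl | rfl <;> simp
  have hform : ∀ m : ℕ, s ^ m ≠ 1 → ∀ c : C,
      χh ((c : Γ) * s ^ m) = (ε : ℂ) * (β : C → ℂ) c * ((u : ℂ) ^ m) := by
    intro m hm c
    have hn1 : n ≠ 1 := fun h1 => hm (by rw [orderOf_eq_one_iff.1 h1, one_pow])
    rw [hall m hm c, mul_right_comm (ε : ℂ), ← Int.cast_pow, ← Int.cast_mul]
    congr 2
    rcases Nat.even_or_odd m with he | ho
    · rw [if_neg (Nat.not_odd_iff_even.2 he)]
      obtain ⟨r, rfl⟩ := he
      rw [pow_add, ← mul_pow, hu2, one_pow, mul_one]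
    · rw [if_pos ho]
      obtain ⟨r, rfl⟩ := ho
      rw [pow_succ, pow_mul, sq, hu2, one_pow, one_mul, hu, if_neg hn1]
      rcases hε with rfl | rfl <;> ring
  -- divisibility
  have hk : ∀ γ : IrrCharacter C, ∃ k : ℕ,
      (d γ : ℤ) = (n : ℤ) * k + (if β = γ then ε else 0) := by
    intro γ
    have key : ∀ i, ∃ t : ℕ, ∑ m ∈ Finset.range n, (z γ i * (u : ℂ)) ^ m = (n : ℂ) * t := by
      intro i
      by_cases h1 : z γ i * (u : ℂ) = 1
      · exact ⟨1, by simp [h1]⟩
      · refine ⟨0, ?_⟩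
        rw [geom_sum_eq h1, mul_pow, hz, ← Int.cast_pow, hun]
        simp
    choose t ht using key
    have hsum : (n : ℂ) * (∑ i, t i : ℕ) =
        (d γ : ℂ) + ((n : ℂ) - 1) * ((if β = γ then ε else 0 : ℤ) : ℂ) := by
      rw [Nat.cast_sum, Finset.mul_sum, ← Finset.sum_congr rfl fun i _ => ht i, Finset.sum_comm,
        ← Finset.add_sum_erase _ _ (Finset.mem_range.2 hn0)]
      congr 1
      · simp
      · rw [Finset.sum_congr rfl fun m hm => ?_, Finset.sum_const,
          Finset.card_erase_of_mem (Finset.mem_range.2 hn0), Finset.card_range, nsmul_eq_mul,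
          Nat.cast_sub (show 1 ≤ n from hn0), Nat.cast_one]
        have hm0 : s ^ m ≠ 1 := fun h0 => (Finset.mem_erase.1 hm).1
          (Nat.eq_zero_of_dvd_of_lt (orderOf_dvd_of_pow_eq_one h0)
            (Finset.mem_range.1 (Finset.mem_erase.1 hm).2))
        simp only [mul_pow]
        rw [← Finset.sum_mul, hval m β (ε * u ^ m) (fun c => by rw [hform m hm0 c]; push_cast; ring) γ]
        split_ifs with hb
        · rw [Int.cast_mul, Int.cast_pow, mul_assoc, ← mul_pow, ← Int.cast_mul, hu2]; simp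
        · simp
    have hsum' : (n : ℤ) * (∑ i, t i : ℕ) = (d γ : ℤ) + ((n : ℤ) - 1) * (if β = γ then ε else 0) := by
      apply Int.cast_injective (α := ℂ)
      push_cast
      push_cast at hsum
      exact hsum
    set w : ℤ := (if β = γ then ε else 0) with hw
    set T : ℤ := ((∑ i, t i : ℕ) : ℤ)
    have hge : 0 ≤ T - w := by
      by_cases h1 : n = 1
      · have : w ≤ 0 := by rw [hw]; split_ifs <;> [rw [hεn h1]; skip] <;> norm_num
        have : 0 ≤ T := Int.natCast_nonneg _
        omega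
      · have hw1 : w ≤ 1 := by rw [hw]; split_ifs <;> [rcases hε with e | e <;> rw [e]; skip] <;> norm_num
        have hnT : (n : ℤ) * (T - w) = d γ - w := by linear_combination hsum'
        have h2 : (2 : ℤ) ≤ n := by omega
        by_contra hlt
        have : (n : ℤ) * (T - w) ≤ (n : ℤ) * (-1) :=
          mul_le_mul_of_nonneg_left (by omega) (by omega)
        omega
    refine ⟨(T - w).toNat, ?_⟩
    rw [Int.toNat_of_nonneg hge]
    linear_combination -hsum'
  choose k hk using hk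
  refine ⟨ε, u, hε, hu1, hun, hform, k, ?_⟩
  have hexp : (fun c : C => χ ⟨c, hCG c.2⟩) =
      ∑ γ : IrrCharacter C, (d γ : ℂ) • (γ : C → ℂ) := by
    have hcl : Cfsg.IsClassFunction C fun c : C => χ ⟨c, hCG c.2⟩ :=
      isClassFunction_of_isCharacter (isCharacter_comp (Subgroup.inclusion hCG)
        (isCharacter_of_isIrr hχ))
    refine (classFunction_expansion hcl).trans (Finset.sum_congr rfl fun γ _ => ?_)
    rw [hd]
  rw [hexp]
  funext c
  simp only [Finset.sum_apply, Pi.smul_apply, smul_eq_mul, Finset.mul_sum]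
  have hcast : ∀ γ, (d γ : ℂ) = (n : ℂ) * k γ + ((if β = γ then ε else 0 : ℤ) : ℂ) :=
    fun γ => by exact_mod_cast hk γ
  simp only [hcast, add_mul, Finset.sum_add_distrib, mul_assoc]
  congr 1
  rw [Finset.sum_eq_single β (fun γ _ hγ => by simp [Ne.symm hγ]) (by simp)]
  simp

end CfsgLib.Glauberman.CyclicSign
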