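import Cfsg.Agent.Glauberman.CyclicSign

/-!
# A normal subgroup with a cyclic complement of coprime order, written inside the product
-/

set_option autoImplicit false
set_option linter.style.haveILetI false
set_option linter.unusedSectionVars false

namespace CfsgLib.Glauberman.CyclicSign

variable {Γ : Type*} [Group Γ] [Fintype Γ] {G S : Subgroup Γ}
  (hnorm : ∀ s ∈ S, ∀ g ∈ G, s * g * s⁻¹ ∈ G) (hcop : (Nat.card G).Coprime (Nat.card S))
  (htop : G ⊔ S = ⊤)

include hnorm in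
theorem le_normalizer : S ≤ Subgroup.normalizer (G : Set Γ) := fun s hs =>
  Subgroup.mem_normalizer_iff.2 fun g => ⟨hnorm s hs g, fun h => by
    simpa [mul_assoc] using hnorm s⁻¹ (S.inv_mem hs) _ h⟩

include hnorm htop in
theorem normal : G.Normal := by
  rw [← Subgroup.normalizer_eq_top_iff, eq_top_iff, ← htop]
  exact sup_le Subgroup.le_normalizer (le_normalizer hnorm)

include hnorm hcop htop in
theorem index_eq : G.index = Nat.card S := by
  have h := CfsgLib.Coprime.card_sup_eq (le_normalizer hnorm)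
    (CfsgLib.Coprime.inf_eq_bot_of_coprime hcop)
  rw [htop, Subgroup.card_top, ← Subgroup.card_mul_index G] at h
  exact Nat.eq_of_mul_eq_mul_left Nat.card_pos h

include hnorm htop in
theorem gen_quotient [G.Normal] {s : Γ} (hs : Subgroup.zpowers s = S) (x : Γ) :
    ∃ k : ℤ, (s : Γ ⧸ G) ^ k = (x : Γ ⧸ G) := by
  obtain ⟨g, hg, u, hu, rfl⟩ := CfsgLib.Coprime.exists_mul_of_mem_sup (le_normalizer hnorm)
    (show x ∈ G ⊔ S from htop ▸ Subgroup.mem_top x)
  rw [← hs] at hu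
  obtain ⟨k, rfl⟩ := Subgroup.mem_zpowers_iff.1 hu
  refine ⟨k, ?_⟩
  rw [QuotientGroup.mk_mul, (QuotientGroup.eq_one_iff g).2 hg, one_mul, QuotientGroup.mk_zpow]

include hnorm htop in
theorem cyclic_quotient [G.Normal] {s : Γ} (hs : Subgroup.zpowers s = S) :
    IsCyclic (Γ ⧸ G) :=
  ⟨⟨(s : Γ ⧸ G), fun q => by
    obtain ⟨x, rfl⟩ := QuotientGroup.mk_surjective q
    exact Subgroup.mem_zpowers_iff.2 (gen_quotient hnorm htop hs x)⟩⟩

include hnorm htop in
/-- `S`-invariance is invariance in the product. -/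
theorem inv_of_inv [hG : G.Normal] (χ : Cfsg.IrrCharacter G)
    (h : ∀ s ∈ S, ∀ g g' : G, (g' : Γ) = s * g * s⁻¹ → (χ : G → ℂ) g' = (χ : G → ℂ) g)
    (x : Γ) (g : G) :
    (χ : G → ℂ) ⟨x * g * x⁻¹, hG.conj_mem g g.2 x⟩ = (χ : G → ℂ) g := by
  obtain ⟨a, ha, u, hu, rfl⟩ := CfsgLib.Coprime.exists_mul_of_mem_sup (le_normalizer hnorm)
    (show x ∈ G ⊔ S from htop ▸ Subgroup.mem_top x)
  rw [← h u hu g ⟨u * g * u⁻¹, hnorm u hu g g.2⟩ rfl]
  exact (congrArg (χ : G → ℂ) (Subtype.ext (by simp [mul_assoc]))).trans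
    (CfsgLib.Characters.isClassFunction_of_isIrr χ.2 ⟨u * g * u⁻¹, hnorm u hu g g.2⟩ ⟨a, ha⟩)

theorem mem_fixed_iff {C : Subgroup Γ} (hC : C = G ⊓ Subgroup.centralizer (S : Set Γ)) {s : Γ}
    (hs : Subgroup.zpowers s = S) (g : Γ) (hg : g ∈ G) : g ∈ C ↔ s * g = g * s := by
  rw [hC, Subgroup.mem_inf, and_iff_right hg, ← hs, Subgroup.mem_centralizer_iff]
  refine ⟨fun h => h s (Subgroup.mem_zpowers s), fun h y hy => ?_⟩
  obtain ⟨k, rfl⟩ := Subgroup.mem_zpowers_iff.1 hy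
  exact (Commute.zpow_left (show Commute s g from h) k).eq

theorem pow_card_zpowers {s : Γ} (hs : Subgroup.zpowers s = S) : s ^ Nat.card S = 1 := by
  rw [← hs, Nat.card_zpowers, pow_orderOf_eq_one]

/-- Generators are powers with exponent prime to the order. -/
theorem exists_coprime_pow {s t : Γ} (hs : Subgroup.zpowers s = S)
    (ht : Subgroup.zpowers t = S) : ∃ k : ℕ, k.Coprime (Nat.card S) ∧ t = s ^ k := by
  have htm : t ∈ Subgroup.zpowers s := by rw [hs, ← ht]; exact Subgroup.mem_zpowers t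
  obtain ⟨k, hk⟩ : ∃ k : ℕ, s ^ k = t := mem_powers_iff_mem_zpowers.2 htm
  refine ⟨k, ?_, hk.symm⟩
  have ho : orderOf t = orderOf s := by rw [← Nat.card_zpowers, ← Nat.card_zpowers, ht, hs]
  rw [← hs, Nat.card_zpowers, Nat.coprime_comm, Nat.coprime_iff_gcd_eq_one]
  rw [← hk, orderOf_pow] at ho
  exact (Nat.div_eq_self.1 ho).resolve_left (orderOf_pos s).ne'

end CfsgLib.Glauberman.CyclicSign
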