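import Cfsg.Agent.Glauberman.RootSums
import Cfsg.Agent.Glauberman.Constituent
import Cfsg.Agent.CharactersDeep.ExtensionCriteria
import Cfsg.Agent.GaloisConj.Basic
import Cfsg.Agent.RelGlauberman.Twisted

/-!
# The cyclic Glauberman correspondence with signs

`G` is normal in `Γ` with cyclic quotient generated by an element `s` of order `|Γ : G|` prime to
`|G|`. On the coset `G s` the canonical extension of an invariant character of `G` is `± β` for one
irreducible character `β` of the fixed subgroup `C`, and `χ ↦ β` is a bijection.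
-/

set_option autoImplicit false
set_option linter.style.haveILetI false
set_option linter.unusedSectionVars false

namespace CfsgLib.Glauberman.CyclicSign

open Cfsg CfsgLib.Characters CfsgLib.OddOrderChar CfsgLib.CharactersDeep
open scoped ComplexConjugate

variable {Γ : Type*} [Group Γ] [Fintype Γ] {G : Subgroup Γ} [hG : G.Normal] [Fintype G]

/-- A canonical extension. -/
def IsCan (G : Subgroup Γ) (χ : G → ℂ) (χh : Γ → ℂ) : Prop :=
  Cfsg.IsIrrCharacter Γ χh ∧ (∀ g : G, χh g = χ g) ∧ (Cfsg.detOrder χh).Coprime G.index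

variable (hcyc : IsCyclic (Γ ⧸ G)) (hcop : (Nat.card G).Coprime G.index)

theorem degree_coprime (hcop : (Nat.card G).Coprime G.index) {χ : G → ℂ}
    (hχ : Cfsg.IsIrrCharacter G χ) {d : ℕ} (hd : χ 1 = d) : d.Coprime G.index := by
  obtain ⟨m, ρ, hρ, rfl⟩ := hχ
  rw [Representation.char_one, Nat.cast_inj] at hd
  exact hcop.coprime_dvd_left (hd ▸ finrank_dvd_card ρ)

theorem hom_pow_index {ν : Γ →* ℂˣ} (hν : ∀ g : G, ν g = 1) (x : Γ) : ν x ^ G.index = 1 := by
  rw [← map_pow]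
  exact hν ⟨_, G.pow_index_mem x⟩

include hcyc hcop in
theorem exists_isCan (χ : IrrCharacter G)
    (hinv : ∀ (x : Γ) (g : G), (χ : G → ℂ) ⟨x * g * x⁻¹, hG.conj_mem g g.2 x⟩ = (χ : G → ℂ) g) :
    ∃ χh : IrrCharacter Γ, IsCan G (χ : G → ℂ) (χh : Γ → ℂ) := by
  obtain ⟨φ, hφ, hres⟩ := ExtensionCriteria.extends_of_cyclic G χ.2 hinv hcyc
  obtain ⟨d, ρ, hρ, rfl⟩ := hφ
  have hd : (χ : G → ℂ) 1 = d := by
    rw [← hres 1, OneMemClass.coe_one, Representation.char_one, Module.finrank_fin_fun]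
  set o := Nat.card G with ho
  have hdo : (d * o).Coprime G.index := (degree_coprime hcop χ.2 hd).mul_left hcop
  obtain ⟨e, he⟩ : ∃ e : ℕ, G.index ∣ 1 + d * o * e := by
    haveI : NeZero G.index := ⟨Subgroup.index_ne_zero_of_finite⟩
    refine ⟨(-((ZMod.unitOfCoprime _ hdo)⁻¹ : (ZMod G.index)ˣ) : ZMod G.index).val, ?_⟩
    rw [← ZMod.natCast_eq_zero_iff]
    push_cast
    rw [ZMod.natCast_zmod_val, mul_neg, ← Nat.cast_mul, ← ZMod.coe_unitOfCoprime _ hdo,
      Units.mul_inv, add_neg_cancel]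
  set δ := LinearChar.detHom ρ with hδ
  have hδG : ∀ g : G, (δ ^ o) (g : Γ) = 1 := fun g => by
    rw [MonoidHom.pow_apply, ← map_pow, ← SubgroupClass.coe_pow, ho, pow_card_eq_one',
      OneMemClass.coe_one, map_one]
  set ν : Γ →* ℂˣ := δ ^ (o * e) with hν
  have hνG : ∀ g : G, ν g = 1 := fun g => by
    rw [hν, MonoidHom.pow_apply, pow_mul, ← MonoidHom.pow_apply, hδG, one_pow]
  obtain ⟨hirr, hdet⟩ := ExtensionCriteria.twist (isIrrCharacter_character ρ)
    (d := d) (by rw [Representation.char_one, Module.finrank_fin_fun]) ν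
  refine ⟨⟨_, hirr⟩, hirr, fun g => ?_, ?_⟩
  · show (ν g : ℂ) * ρ.character g = _
    rw [hνG, Units.val_one, one_mul, hres]
  · have heq : Cfsg.detChar (fun g => (ν g : ℂ) * ρ.character g) =
        fun g => ((ν ^ d * δ) g : ℂ) := funext fun g => by
      rw [hdet, LinearChar.detChar_eq_hom, hδ]
      simp
    show (Cfsg.detOrder fun g => (ν g : ℂ) * ρ.character g).Coprime G.index
    rw [Cfsg.detOrder, heq, LinearChar.orderOf_coe_hom]
    refine hcop.coprime_dvd_left (orderOf_dvd_of_pow_eq_one ?_)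
    obtain ⟨k, hk⟩ := he
    refine MonoidHom.ext fun x => ?_
    rw [MonoidHom.pow_apply, MonoidHom.one_apply, hν, MonoidHom.mul_apply, MonoidHom.pow_apply,
      MonoidHom.pow_apply, ← pow_mul, ← pow_succ, ← pow_mul,
      show (o * e * d + 1) * o = o * (G.index * k) by rw [← hk]; ring,
      pow_mul, pow_mul, ← MonoidHom.pow_apply, hom_pow_index hδG, one_pow]

include hcop in
theorem IsCan.eq {χ : G → ℂ} (hχ : Cfsg.IsIrrCharacter G χ) {φ ψ : Γ → ℂ} (hφ : IsCan G χ φ)
    (hψ : IsCan G χ ψ) : φ = ψ := by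
  haveI : Fintype G := Fintype.ofFinite _
  obtain ⟨ν, hνG, hνe⟩ := ExtensionCriteria.exists_twist G hφ.1 hψ.1 hχ hφ.2.1 hψ.2.1
  obtain ⟨d, hd0, hd⟩ := exists_degree_pos hχ
  have hd' : φ 1 = d := by rw [show (1 : Γ) = ((1 : G) : Γ) from rfl, hφ.2.1, hd]
  obtain ⟨-, hdet⟩ := ExtensionCriteria.twist hφ.1 hd' ν
  suffices h1 : ν = 1 by rw [hνe, h1]; simp
  refine MonoidHom.ext fun x => ?_
  have hψo : Cfsg.detChar ψ x ^ Cfsg.detOrder ψ = 1 := by
    rw [Cfsg.detOrder, ← Pi.pow_apply, pow_orderOf_eq_one]; rfl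
  have hφo : Cfsg.detChar φ x ^ Cfsg.detOrder φ = 1 := by
    rw [Cfsg.detOrder, ← Pi.pow_apply, pow_orderOf_eq_one]; rfl
  have hm : (ν x : ℂ) ^ (d * (Cfsg.detOrder φ * Cfsg.detOrder ψ)) = 1 := by
    have h1 : Cfsg.detChar ψ x = (ν x : ℂ) ^ d * Cfsg.detChar φ x := by rw [hνe]; exact hdet x
    have h2 : Cfsg.detChar ψ x ^ (Cfsg.detOrder φ * Cfsg.detOrder ψ) = 1 := by
      rw [mul_comm, pow_mul, hψo, one_pow]
    rw [h1, mul_pow, pow_mul (Cfsg.detChar φ x), hφo, one_pow, mul_one, ← pow_mul] at h2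
    exact h2
  have hm' : ν x ^ (d * (Cfsg.detOrder φ * Cfsg.detOrder ψ)) = 1 :=
    Units.ext (by rw [Units.val_pow_eq_pow_val, hm, Units.val_one])
  have := pow_gcd_eq_one.2 ⟨hm', hom_pow_index hνG x⟩
  rwa [(degree_coprime hcop hχ hd).mul_left (hφ.2.2.mul_left hψ.2.2), pow_one] at this

include hcop in
/-- Values of the canonical extension at generators of the same cyclic subgroup agree. -/
theorem IsCan.pow_eq {χ : G → ℂ} (hχ : Cfsg.IsIrrCharacter G χ) {χh : Γ → ℂ} (h : IsCan G χ χh)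
    {c t : Γ} (hc : c ∈ G) (hct : Commute c t) (ht : t ^ G.index = 1) {k : ℕ}
    (hk : k.Coprime G.index) : χh (c * t ^ k) = χh (c * t) := by
  obtain ⟨K, hK1, hK2⟩ := Nat.chineseRemainder hcop 1 k
  have hKG : K.Coprime (Nat.card G) := by
    rw [Nat.coprime_iff_gcd_eq_one, hK1.gcd_eq, Nat.gcd_one_left]
  have hKi : K.Coprime G.index := by rw [Nat.coprime_iff_gcd_eq_one, hK2.gcd_eq]; exact hk
  have hKΓ : K.Coprime (Nat.card Γ) := by
    rw [← Subgroup.card_mul_index G]; exact hKG.mul_right hKi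
  haveI : NeZero (Nat.card Γ) := ⟨Nat.card_pos.ne'⟩
  obtain ⟨σ, hσ⟩ := GaloisConj.exists_ringEquiv_pow (Nat.card Γ) K hKΓ
  have hmap := GaloisConj.map_character_eq_pow hσ (isCharacter_of_isIrr h.1)
  have hcanσ : IsCan G χ fun x => σ (χh x) := by
    refine ⟨GaloisConj.isIrrCharacter_comp σ h.1, fun g => ?_, ?_⟩
    · show σ (χh g) = _
      rw [hmap]
      have hg : g ^ K = g := by
        conv_rhs => rw [← pow_one g]
        exact pow_eq_pow_iff_modEq.2 (hK1.of_dvd (orderOf_dvd_natCard g))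
      rw [← SubgroupClass.coe_pow, hg, h.2.1]
    · obtain ⟨m, ρ, -, hρ⟩ := h.1
      have hd : Cfsg.detChar (fun x => σ (χh x)) = fun x => σ (Cfsg.detChar χh x) := by
        rw [← hρ, show (fun x => σ (ρ.character x)) = (GaloisConj.conjRep σ ρ).character from
          (funext (GaloisConj.character_conjRep σ ρ)).symm, LinearChar.detChar_eq,
          LinearChar.detChar_eq]
        funext x
        simp only
        rw [← LinearMap.det_toMatrix', ← LinearMap.det_toMatrix' (f := ρ x), RingEquiv.map_det]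
        simp [GaloisConj.conjRep]
      have ho : Cfsg.detOrder (fun x => σ (χh x)) = Cfsg.detOrder χh := by
        rw [Cfsg.detOrder, hd, Cfsg.detOrder]
        exact orderOf_injective (MonoidHom.compLeft σ.toRingHom.toMonoidHom Γ)
          (fun a b hab => funext fun x => σ.injective (congrFun hab x)) _
      rw [ho]; exact h.2.2
  have hfix := congrFun (hcanσ.eq hcop hχ h) (c * t)
  rw [hmap, hct.mul_pow] at hfix
  rw [← hfix]
  have hck : c ^ K = c := by
    conv_rhs => rw [← pow_one c]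
    exact pow_eq_pow_iff_modEq.2 (hK1.of_dvd (Subgroup.orderOf_dvd_natCard G hc))
  have htk : t ^ K = t ^ k :=
    pow_eq_pow_iff_modEq.2 (hK2.of_dvd (orderOf_dvd_of_pow_eq_one ht))
  rw [hck, htk]

variable (C : Subgroup Γ) [Fintype C] (hCG : C ≤ G)

/-- The restriction of a function to the coset `C t`. -/
def slice (F : Γ → ℂ) (t : Γ) : C → ℂ := fun c => F ((c : Γ) * t)

theorem isClassFunction_slice {F : Γ → ℂ} (hF : Cfsg.IsClassFunction Γ F) {t : Γ}
    (ht : ∀ c ∈ C, t * c = c * t) : Cfsg.IsClassFunction C (slice C F t) := fun c g => by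
  show F ((g : Γ) * c * (g : Γ)⁻¹ * t) = F ((c : Γ) * t)
  rw [← hF ((c : Γ) * t) g]
  congr 1
  rw [mul_assoc _ _ t, ← ht _ (C.inv_mem g.2)]
  group

include hCG hcop in
/-- Twisted conjugation covers the coset `G t` evenly. -/
theorem sum_coset {t : Γ} (ht : t ^ G.index = 1) (hC : ∀ g ∈ G, g ∈ C ↔ t * g = g * t)
    (F : Γ → ℂ) (hF : ∀ a b : Γ, F (a * b * a⁻¹) = F b) :
    (Nat.card C : ℂ) * ∑ g : G, F ((g : Γ) * t) = (Nat.card G : ℂ) * ∑ c : C, F ((c : Γ) * t) := by
  classical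
  haveI := Fintype.ofFinite (G ⧸ C.subgroupOf G)
  set β : MulAut G := MulAut.conjNormal (H := G) t with hβ
  have hβN : β ^ G.index = 1 := by rw [hβ, ← map_pow, ht, map_one]
  have hβfix : ∀ g : G, β g = g ↔ (g : Γ) ∈ C := fun g => by
    rw [hC _ g.2, hβ, ← Subtype.coe_inj, MulAut.conjNormal_apply, mul_inv_eq_iff_eq_mul]
  let Φ : (G ⧸ C.subgroupOf G) × C → G := fun p =>
    p.1.out * ⟨(p.2 : Γ), hCG p.2.2⟩ * (β p.1.out)⁻¹
  have hinj : Function.Injective Φ := by
    rintro ⟨q, c⟩ ⟨q', c'⟩ h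
    have h1 : q.out * ⟨(c : Γ), hCG c.2⟩ * (β q.out)⁻¹ =
        q'.out * ⟨(c' : Γ), hCG c'.2⟩ * (β q'.out)⁻¹ := h
    have h2 := CfsgLib.RelGlauberman.twist_fixed β G.index hβN hcop ⟨(c : Γ), hCG c.2⟩
      ⟨(c' : Γ), hCG c'.2⟩ (q'.out⁻¹ * q.out) ((hβfix _).2 c.2) ((hβfix _).2 c'.2)
      (by
        rw [map_mul, map_inv, mul_inv_rev, inv_inv]
        calc q'.out⁻¹ * q.out * (⟨(c : Γ), hCG c.2⟩ : G) * ((β q.out)⁻¹ * β q'.out)
            = q'.out⁻¹ * (q.out * ⟨(c : Γ), hCG c.2⟩ * (β q.out)⁻¹) * β q'.out := by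
              simp only [mul_assoc]
          _ = q'.out⁻¹ * (q'.out * ⟨(c' : Γ), hCG c'.2⟩ * (β q'.out)⁻¹) * β q'.out := by rw [h1]
          _ = _ := by group)
    have hq : q = q' := by
      rw [← QuotientGroup.out_eq' q, ← QuotientGroup.out_eq' q', eq_comm, QuotientGroup.eq]
      exact (hβfix _).1 h2
    subst hq
    simp only [mul_left_inj, mul_right_inj, Subtype.mk.injEq] at h1
    rw [Subtype.ext h1]
  have hcardC : Nat.card (C.subgroupOf G) = Nat.card C :=
    Nat.card_congr (Subgroup.subgroupOfEquivOfLe hCG).toEquiv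
  have hbij : Function.Bijective Φ := by
    refine (Fintype.bijective_iff_injective_and_card Φ).2 ⟨hinj, ?_⟩
    rw [Fintype.card_prod, ← Nat.card_eq_fintype_card, ← Nat.card_eq_fintype_card,
      ← Nat.card_eq_fintype_card, ← hcardC, ← Subgroup.card_eq_card_quotient_mul_card_subgroup]
  rw [← hbij.sum_comp (fun g : G => F ((g : Γ) * t)), Fintype.sum_prod_type]
  have hterm : ∀ (q : G ⧸ C.subgroupOf G) (c : C), F ((Φ (q, c) : Γ) * t) = F ((c : Γ) * t) := by
    intro q c
    rw [← hF (q.out : Γ) ((c : Γ) * t)]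
    exact congrArg F (by simp [Φ, hβ, MulAut.conjNormal_apply, mul_assoc])
  simp only [hterm, Finset.sum_const, Finset.card_univ, nsmul_eq_mul]
  rw [← Nat.card_eq_fintype_card, ← mul_assoc, ← Nat.cast_mul, mul_comm (Nat.card C), ← hcardC,
    ← Subgroup.card_eq_card_quotient_mul_card_subgroup]

include hCG hcop in
theorem inner_slice {t : Γ} (ht : t ^ G.index = 1) (hC : ∀ g ∈ G, g ∈ C ↔ t * g = g * t)
    {φ ψ : Γ → ℂ} (hφ : Cfsg.IsClassFunction Γ φ) (hψ : Cfsg.IsClassFunction Γ ψ) :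
    (Nat.card G : ℂ) * Cfsg.classInner (slice C φ t) (slice C ψ t) =
      ∑ g : G, φ ((g : Γ) * t) * conj (ψ ((g : Γ) * t)) := by
  have h := sum_coset hcop C hCG ht hC (fun x => φ x * conj (ψ x)) (fun a b => by
    show φ (a * b * a⁻¹) * conj (ψ (a * b * a⁻¹)) = _
    rw [hφ b a, hψ b a])
  refine mul_left_cancel₀ (subgroup_card_ne_zero C) ?_
  rw [h, Cfsg.classInner, mul_left_comm, ← mul_assoc (Nat.card C : ℂ),
    mul_inv_cancel₀ (subgroup_card_ne_zero C), one_mul]
  rfl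

include hCG hcop in
theorem inner_slice_self {t : Γ} (ht : t ^ G.index = 1) (hC : ∀ g ∈ G, g ∈ C ↔ t * g = g * t)
    {χ : G → ℂ} (hχ : Cfsg.IsIrrCharacter G χ) {χh : Γ → ℂ} (h : IsCan G χ χh) :
    Cfsg.classInner (slice C χh t) (slice C χh t) = 1 := by
  have hres : Cfsg.IsIrrCharacter G fun g : G => χh g := by
    rw [show (fun g : G => χh g) = χ from funext h.2.1]; exact hχ
  refine mul_left_cancel₀ (subgroup_card_ne_zero G) ?_
  rw [inner_slice hcop C hCG ht hC (isClassFunction_of_isIrr h.1) (isClassFunction_of_isIrr h.1),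
    Gallagher.sum_coset_mul_conj G h.1 hres, mul_one]

include hCG hcop in
theorem inner_slice_ne {t : Γ} (ht : t ^ G.index = 1) (hC : ∀ g ∈ G, g ∈ C ↔ t * g = g * t)
    {χ χ' : IrrCharacter G} (hne : χ ≠ χ') {χh χh' : Γ → ℂ} (h : IsCan G (χ : G → ℂ) χh)
    (h' : IsCan G (χ' : G → ℂ) χh') :
    Cfsg.classInner (slice C χh' t) (slice C χh t) = 0 := by
  haveI := Fintype.ofFinite (Γ ⧸ G)
  obtain ⟨f, hf, hfv, hfi⟩ := Gallagher.exists_coset_sum G h.1 (isClassFunction_of_isIrr h'.1)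
  have hf0 : f = 0 := by
    refine classFunction_eq_zero hf fun β => ?_
    rw [hfi]
    have hres : Cfsg.IsIrrCharacter G fun g : G => χh g := by
      rw [show (fun g : G => χh g) = (χ : G → ℂ) from funext h.2.1]; exact χ.2
    rw [classInner_isIrr_ne h'.1 (Gallagher.isIrr_prodInfl G h.1 hres β.2) ?_, mul_zero]
    intro he
    have h1 := Gallagher.classInner_restrict_prodInfl G h.1 hres (β := (β : Γ ⧸ G → ℂ))
    rw [← he, show (fun g : G => χh' g) = (χ' : G → ℂ) from funext h'.2.1,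
      show (fun g : G => χh g) = (χ : G → ℂ) from funext h.2.1,
      classInner_isIrr_ne χ'.2 χ.2 fun e => hne (Subtype.ext e).symm] at h1
    exact irr_one_ne_zero β.2 h1.symm
  refine mul_left_cancel₀ (subgroup_card_ne_zero G) ?_
  rw [inner_slice hcop C hCG ht hC (isClassFunction_of_isIrr h'.1) (isClassFunction_of_isIrr h.1),
    mul_zero, ← hfv t, hf0, Pi.zero_apply]

include hCG hcop in
/-- The multiplicity of `β` in the slices is given by integer power sums of roots of unity. -/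
theorem exists_roots {t : Γ} (ht : t ^ G.index = 1) (htC : ∀ c ∈ C, t * c = c * t) {χ : G → ℂ}
    (hχ : Cfsg.IsIrrCharacter G χ) {χh : Γ → ℂ} (h : IsCan G χ χh) (β : IrrCharacter C) :
    ∃ (d : ℕ) (z : Fin d → ℂ) (a : ℤ), (∀ i, z i ^ orderOf t = 1) ∧
      (∀ j : ℕ, Cfsg.classInner (slice C χh (t ^ j)) (β : C → ℂ) = ∑ i, z i ^ j) ∧
      Cfsg.classInner (slice C χh t) (β : C → ℂ) = a ∧
      Cfsg.classInner (fun c : C => χ ⟨c, hCG c.2⟩) (β : C → ℂ) = (d : ℂ) := by
  classical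
  set T := Subgroup.zpowers t
  haveI : Fintype T := Fintype.ofFinite _
  have hcomm : ∀ (c : C) (u : T), Commute (c : Γ) u := fun c u => by
    obtain ⟨j, hj⟩ := Subgroup.mem_zpowers_iff.1 u.2
    rw [← hj]
    exact Commute.zpow_right (htC c c.2).symm j
  let ι : C × T →* Γ := C.subtype.noncommCoprod T.subtype hcomm
  set A : T → ℂ := fun u => Cfsg.classInner (slice C χh u) (β : C → ℂ) with hA
  have hAchar : Cfsg.IsCharacter T A := by
    refine isCharacter_of_classInner (fun u v => congrArg A (Subtype.ext ?_)) fun l => ?_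
    · obtain ⟨a, ha⟩ := Subgroup.mem_zpowers_iff.1 u.2
      obtain ⟨b, hb⟩ := Subgroup.mem_zpowers_iff.1 v.2
      simp only [Subgroup.coe_mul, Subgroup.coe_inv, ← ha, ← hb]
      group
    obtain ⟨m, hm⟩ := classInner_characters (isCharacter_comp ι (isCharacter_of_isIrr h.1))
      (isCharacter_mul (isCharacter_comp (MonoidHom.fst C T) (isCharacter_of_isIrr β.2))
        (isCharacter_comp (MonoidHom.snd C T) (isCharacter_of_isIrr l.2)))
    refine ⟨m, ?_⟩
    rw [← hm]
    simp only [hA, Cfsg.classInner, slice, Pi.mul_apply, map_mul, Nat.card_prod, Nat.cast_mul,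
      mul_inv, Fintype.sum_prod_type, MonoidHom.coe_fst, MonoidHom.coe_snd]
    rw [Finset.sum_comm]
    simp only [Finset.mul_sum, Finset.sum_mul]
    exact Finset.sum_congr rfl fun u _ => Finset.sum_congr rfl fun c _ => by
      rw [show ι (c, u) = (c : Γ) * u from rfl]; ring
  obtain ⟨m, ρ, hρ⟩ := hAchar
  obtain ⟨μ, hμ, hμj, -⟩ := exists_eigenvalues ρ (⟨t, Subgroup.mem_zpowers t⟩ : T)
  have hval : ∀ j : ℕ, Cfsg.classInner (slice C χh (t ^ j)) (β : C → ℂ) = ∑ i, μ i ^ j := fun j => by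
    rw [← hμj, hρ]; rfl
  have hμ' : ∀ i, μ i ^ orderOf t = 1 := fun i => by
    have := hμ i
    rwa [← Subgroup.orderOf_coe] at this
  have ho : 0 < orderOf t := orderOf_pos t
  obtain ⟨w, hw⟩ : ∃ w : ℂ, IsPrimitiveRoot w (orderOf t) :=
    ⟨_, Complex.isPrimitiveRoot_exp _ ho.ne'⟩
  haveI : NeZero (orderOf t) := ⟨ho.ne'⟩
  choose a _ haw using fun i => hw.eq_pow_of_pow_eq_one (hμ' i)
  obtain ⟨z, hz⟩ := RootSums.exists_int_of_const ho (∑ i, Polynomial.X ^ a i)
    (c := Cfsg.classInner (slice C χh t) (β : C → ℂ)) fun w' hw' => by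
    obtain ⟨k, hklt, hk⟩ := hw.eq_pow_of_pow_eq_one hw'.pow_eq_one
    have hkcop : k.Coprime (orderOf t) := (hw.pow_iff_coprime ho k).1 (hk ▸ hw')
    haveI : NeZero G.index := ⟨Subgroup.index_ne_zero_of_finite⟩
    obtain ⟨u, hu⟩ := ZMod.unitsMap_surjective (orderOf_dvd_of_pow_eq_one ht)
      (ZMod.unitOfCoprime k hkcop)
    have hu' : ((u : ZMod G.index).val : ZMod (orderOf t)) = (k : ZMod (orderOf t)) := by
      have := congrArg Units.val hu
      rw [ZMod.unitsMap_val, ZMod.coe_unitOfCoprime] at this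
      rw [← this, ← ZMod.natCast_val]
    have htk : t ^ k = t ^ (u : ZMod G.index).val :=
      pow_eq_pow_iff_modEq.2 ((ZMod.natCast_eq_natCast_iff _ _ _).1 hu'.symm)
    have hsl : slice C χh (t ^ k) = slice C χh t := funext fun c => by
      show χh ((c : Γ) * t ^ k) = χh ((c : Γ) * t)
      rw [htk, h.pow_eq hcop hχ (hCG c.2) (htC c c.2).symm ht (ZMod.val_coe_unit_coprime u)]
    rw [← hsl, hval, map_sum]
    refine Finset.sum_congr rfl fun i _ => ?_
    rw [map_pow, Polynomial.aeval_X, ← hk, ← haw, pow_right_comm]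
  refine ⟨_, μ, z, hμ', hval, hz, ?_⟩
  have h0 := hval 0
  simp only [pow_zero, Finset.sum_const, Finset.card_univ, Fintype.card_fin, nsmul_eq_mul,
    mul_one] at h0
  rw [← h0]
  congr 1
  funext c
  show _ = χh ((c : Γ) * 1)
  rw [mul_one, ← h.2.1]

include hCG hcop in
/-- The integers at a good element have square sum one. -/
theorem exists_unit_coeff {t : Γ} (ht : t ^ G.index = 1) (hC : ∀ g ∈ G, g ∈ C ↔ t * g = g * t)
    {χ : G → ℂ} (hχ : Cfsg.IsIrrCharacter G χ) {χh : Γ → ℂ} (h : IsCan G χ χh) :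
    ∃ (β : IrrCharacter C) (ε : ℤ), (ε = 1 ∨ ε = -1) ∧
      (∀ c : C, χh ((c : Γ) * t) = (ε : ℂ) * (β : C → ℂ) c) := by
  classical
  have htC : ∀ c ∈ C, t * c = c * t := fun c hc => (hC c (hCG hc)).1 hc
  choose d z a _ _ ha _ using exists_roots hcop C hCG ht htC hχ h
  have hexp : slice C χh t = ∑ β : IrrCharacter C, (a β : ℂ) • (β : C → ℂ) := by
    refine (classFunction_expansion
      (isClassFunction_slice C (isClassFunction_of_isIrr h.1) htC)).trans ?_
    exact Finset.sum_congr rfl fun β _ => by rw [ha]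
  have h1 := inner_slice_self hcop C hCG ht hC hχ h
  nth_rewrite 1 [hexp] at h1
  rw [classInner_sum_left] at h1
  have h2 : ∑ β : IrrCharacter C, a β * a β = 1 := by
    apply Int.cast_injective (α := ℂ)
    push_cast
    rw [← h1]
    refine Finset.sum_congr rfl fun β _ => ?_
    rw [classInner_smul_left, classInner_conj_symm, ha, map_intCast]
  obtain ⟨β, hβ⟩ : ∃ β, a β ≠ 0 := by
    by_contra hall
    push Not at hall
    simp [hall] at h2
  rw [← Finset.add_sum_erase _ _ (Finset.mem_univ β)] at h2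
  have hrest : 0 ≤ ∑ γ ∈ Finset.univ.erase β, a γ * a γ :=
    Finset.sum_nonneg fun γ _ => mul_self_nonneg _
  have hβ1 : 1 ≤ a β * a β := mul_self_pos.2 hβ
  have hzero : ∀ γ ≠ β, a γ = 0 := fun γ hγ =>
    mul_self_eq_zero.1 ((Finset.sum_eq_zero_iff_of_nonneg fun δ _ => mul_self_nonneg (a δ)).1
      (le_antisymm (by linarith) hrest) γ (by simp [hγ]))
  refine ⟨β, a β, mul_self_eq_one_iff.1 (by linarith), fun c => ?_⟩
  refine (congrFun hexp c).trans ?_
  rw [Finset.sum_apply, Finset.sum_eq_single β (fun γ _ hγ => by simp [hzero γ hγ]) (by simp)]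
  rfl

include hCG hcop in
/-- The character found at a good element occurs in the restriction. -/
theorem constituent {t : Γ} (ht : t ^ G.index = 1) (htC : ∀ c ∈ C, t * c = c * t) {χ : G → ℂ}
    (hχ : Cfsg.IsIrrCharacter G χ) {χh : Γ → ℂ} (h : IsCan G χ χh) (β : IrrCharacter C) {ε : ℤ}
    (hε : ε = 1 ∨ ε = -1) (hv : ∀ c : C, χh ((c : Γ) * t) = (ε : ℂ) * (β : C → ℂ) c) :
    Cfsg.classInner (fun c : C => χ ⟨c, hCG c.2⟩) (β : C → ℂ) ≠ 0 := by
  obtain ⟨d, z, a, hz, hval, ha, hd⟩ := exists_roots hcop C hCG ht htC hχ h β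
  rw [hd, Nat.cast_ne_zero]
  rintro rfl
  have h1 := hval 1
  rw [pow_one, show slice C χh t = (ε : ℂ) • (β : C → ℂ) from funext hv, classInner_smul_left,
    classInner_isIrr_self β.2, mul_one, Finset.univ_eq_empty, Finset.sum_empty] at h1
  rcases hε with rfl | rfl <;> norm_num at h1

variable {C} in
include hCG hcyc hcop in
/-- Every irreducible character of `C` arises. -/
theorem exists_of_beta {s : Γ} (hs : s ^ G.index = 1)
    (hgen : ∀ x : Γ, ∃ k : ℤ, (s : Γ ⧸ G) ^ k = (x : Γ ⧸ G))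
    (hC : ∀ g ∈ G, g ∈ C ↔ s * g = g * s) (β : IrrCharacter C) :
    ∃ (χ : IrrCharacter G) (χh : IrrCharacter Γ) (ε : ℤ),
      (∀ (x : Γ) (g : G), (χ : G → ℂ) ⟨x * g * x⁻¹, hG.conj_mem g g.2 x⟩ = (χ : G → ℂ) g) ∧
      IsCan G (χ : G → ℂ) (χh : Γ → ℂ) ∧ (ε = 1 ∨ ε = -1) ∧
      ∀ c : C, (χh : Γ → ℂ) ((c : Γ) * s) = (ε : ℂ) * (β : C → ℂ) c := by
  classical
  have hsC : ∀ c ∈ C, s * c = c * s := fun c hc => (hC c (hCG hc)).1 hc
  suffices hΦ : ∃ Φ : IrrCharacter Γ, Cfsg.classInner (β : C → ℂ) (slice C (Φ : Γ → ℂ) s) ≠ 0 by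
    obtain ⟨Φ, hΦ⟩ := hΦ
    haveI := Fintype.ofFinite (Γ ⧸ G)
    haveI := hcyc
    have hab : ∀ a b : Γ ⧸ G, a * b = b * a := fun a b => by
      letI := hcyc.commGroup; exact mul_comm a b
    by_cases hirr : Cfsg.IsIrrCharacter G fun g : G => (Φ : Γ → ℂ) g
    · set χ : IrrCharacter G := ⟨_, hirr⟩ with hχ
      have hinv : ∀ (x : Γ) (g : G),
          (χ : G → ℂ) ⟨x * g * x⁻¹, hG.conj_mem g g.2 x⟩ = (χ : G → ℂ) g := fun x g =>
        isClassFunction_of_isIrr Φ.2 g x
      obtain ⟨χh, hχh⟩ := exists_isCan hcyc hcop χ hinv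
      obtain ⟨β', ε, hε, hv⟩ := exists_unit_coeff hcop C hCG hs hC χ.2 hχh
      obtain ⟨ν, hνG, hν⟩ := ExtensionCriteria.exists_twist G hχh.1 Φ.2 χ.2 hχh.2.1 (fun g => rfl)
      have hββ : β = β' := by
        by_contra hne
        refine hΦ ?_
        rw [show slice C (Φ : Γ → ℂ) s = fun c : C => (ν ((c : Γ) * s) : ℂ) *
            ((ε : ℂ) * (β' : C → ℂ) c) from funext fun c => by
          show (Φ : Γ → ℂ) ((c : Γ) * s) = _
          rw [hν]; simp only; rw [hv]]
        have hνc : ∀ c : C, (ν ((c : Γ) * s) : ℂ) = (ν s : ℂ) := fun c => by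
          rw [map_mul, hνG ⟨c, hCG c.2⟩, one_mul]
        simp only [hνc, ← mul_assoc]
        rw [show (fun c : C => (ν s : ℂ) * (ε : ℂ) * (β' : C → ℂ) c) =
          ((ν s : ℂ) * (ε : ℂ)) • (β' : C → ℂ) from rfl, classInner_smul_right,
          classInner_isIrr_ne β.2 β'.2 (fun e => hne (Subtype.ext e)), mul_zero]
      exact ⟨χ, χh, ε, hinv, hχh, hε, hββ ▸ hv⟩
    · exfalso
      refine hΦ ?_
      obtain ⟨b, hb1, hb⟩ : ∃ b : IrrCharacter (Γ ⧸ G), (b : Γ ⧸ G → ℂ) ≠ (fun _ => 1) ∧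
          Gallagher.prodInfl G (Φ : Γ → ℂ) (b : Γ ⧸ G → ℂ) = (Φ : Γ → ℂ) := by
        by_contra hno
        push Not at hno
        refine hirr (isIrr_of_classInner_self
          (isCharacter_restrict G (isCharacter_of_isIrr Φ.2)) ?_)
        rw [← classInner_indFun G _ (isClassFunction_of_isIrr Φ.2),
          Gallagher.indFun_restrict G Φ.2, classInner_sum_left,
          Finset.sum_eq_single (⟨fun _ => 1, isIrr_one⟩ : IrrCharacter (Γ ⧸ G))]
        · rw [classInner_smul_left, one_mul, show Gallagher.prodInfl G (Φ : Γ → ℂ) (fun _ => 1) =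
            (Φ : Γ → ℂ) from funext fun x => mul_one _, classInner_isIrr_self Φ.2]
        · intro b _ hb
          rw [classInner_smul_left]
          obtain ⟨f, hf⟩ := exists_hom_of_degree_one (isCharacter_of_isIrr b.2)
            (irr_degree_one_of_comm hab b)
          have hirr' : Cfsg.IsIrrCharacter Γ (Gallagher.prodInfl G (Φ : Γ → ℂ) (b : Γ ⧸ G → ℂ)) := by
            convert isIrr_mul_hom Φ.2 (f.comp (QuotientGroup.mk' G)) using 1
            funext x
            simp [Gallagher.prodInfl, hf]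
          rw [classInner_isIrr_ne hirr' Φ.2 (hno b fun e => hb (Subtype.ext e)), mul_zero]
        · simp
      obtain ⟨f, hf⟩ := exists_hom_of_degree_one (isCharacter_of_isIrr b.2)
        (irr_degree_one_of_comm hab b)
      have hfs : f (s : Γ ⧸ G) ≠ 1 := fun h1 => hb1 (by
        rw [hf]; funext q
        obtain ⟨x, rfl⟩ := QuotientGroup.mk_surjective q
        obtain ⟨k, hk⟩ := hgen x
        rw [← hk, map_zpow, h1, one_zpow, Units.val_one])
      have hzero : slice C (Φ : Γ → ℂ) s = 0 := funext fun c => by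
        have h1 := congrFun hb ((c : Γ) * s)
        simp only [Gallagher.prodInfl, hf, QuotientGroup.mk_mul,
          (QuotientGroup.eq_one_iff (c : Γ)).2 (hCG c.2), one_mul] at h1
        show (Φ : Γ → ℂ) ((c : Γ) * s) = 0
        by_contra hne
        exact hfs (Units.ext (mul_left_cancel₀ hne (h1.trans (mul_one _).symm)))
      rw [hzero, classInner_zero_right]
  by_contra hall
  push Not at hall
  -- a class function supported on the conjugates of `C s`
  let η : Γ → ℂ := fun x => if h : x * s⁻¹ ∈ C then (β : C → ℂ) ⟨_, h⟩ else 0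
  let F : Γ → ℂ := fun x => ∑ y : Γ, η (y * x * y⁻¹)
  have hFcl : Cfsg.IsClassFunction Γ F := fun x g => by
    refine Fintype.sum_equiv (Equiv.mulRight g) _ _ fun y => ?_
    exact congrArg η (by simp [mul_assoc])
  have hF0 : F = 0 := by
    refine classFunction_eq_zero hFcl fun Φ => ?_
    have hΦc := isClassFunction_of_isIrr Φ.2
    have h1 : ∑ x : Γ, η x * conj ((Φ : Γ → ℂ) x) = 0 := by
      have hc := hall Φ
      rw [Cfsg.classInner, mul_eq_zero] at hc
      rw [← Finset.sum_subset (Finset.subset_univ (Finset.univ.image fun c : C => (c : Γ) * s))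
        (fun x _ hx => by
          have : η x = 0 := dif_neg fun h => hx (Finset.mem_image.2
            ⟨⟨_, h⟩, Finset.mem_univ _, by simp⟩)
          rw [this, zero_mul]),
        Finset.sum_image (fun a _ b _ e => Subtype.ext (mul_right_cancel e))]
      refine Eq.trans ?_ (hc.resolve_left (inv_ne_zero natCard_ne_zero))
      refine Finset.sum_congr rfl fun c _ => ?_
      have : η ((c : Γ) * s) = (β : C → ℂ) c := by
        simp only [η, mul_inv_cancel_right, c.2, dif_pos, Subtype.coe_eta]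
      rw [this]; rfl
    rw [Cfsg.classInner, mul_eq_zero]
    right
    simp only [F, Finset.sum_mul]
    rw [Finset.sum_comm]
    refine Finset.sum_eq_zero fun y _ => ?_
    rw [← h1]
    refine Fintype.sum_equiv (MulAut.conj y).toEquiv _ _ fun x => ?_
    rw [MulEquiv.toEquiv_eq_coe, EquivLike.coe_coe, MulAut.conj_apply, hΦc x y]
  have hcs : F ((1 : C) * s) = ((Finset.univ.filter fun y : Γ => y * s * y⁻¹ * s⁻¹ ∈ C).card : ℂ) *
      (β : C → ℂ) 1 := by
    simp only [F, η, OneMemClass.coe_one, one_mul]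
    rw [Finset.card_filter, Nat.cast_sum, Finset.sum_mul]
    refine Finset.sum_congr rfl fun y _ => ?_
    by_cases hy : y * s * y⁻¹ * s⁻¹ ∈ C
    · rw [dif_pos hy, if_pos hy, Nat.cast_one, one_mul]
      obtain ⟨u, huG, k, rfl⟩ : ∃ u ∈ G, ∃ k : ℤ, y = u * s ^ k := by
        obtain ⟨k, hk⟩ := hgen y
        refine ⟨y * (s ^ k)⁻¹, ?_, k, by group⟩
        rw [← QuotientGroup.eq_one_iff, QuotientGroup.mk_mul, QuotientGroup.mk_inv,
          QuotientGroup.mk_zpow, hk, mul_inv_cancel]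
      have he : u * s ^ k * s * (u * s ^ k)⁻¹ * s⁻¹ = u * s * u⁻¹ * s⁻¹ := by group
      have hy' : u * s * u⁻¹ * s⁻¹ ∈ C := he ▸ hy
      have hfix := CfsgLib.RelGlauberman.twist_fixed (MulAut.conjNormal (H := G) s) G.index
        (by rw [← map_pow, hs, map_one]) hcop 1
        ⟨u * s * u⁻¹ * s⁻¹, hCG hy'⟩ ⟨u, huG⟩ (map_one _)
        (Subtype.ext (by
          rw [MulAut.conjNormal_apply, hsC _ hy']; simp))
        (Subtype.ext (by simp [MulAut.conjNormal_apply, mul_assoc]))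
      have hu : s * u = u * s := by
        have := congrArg Subtype.val hfix
        rw [MulAut.conjNormal_apply, mul_inv_eq_iff_eq_mul] at this
        exact this
      refine congrArg (β : C → ℂ) (Subtype.ext ?_)
      show u * s ^ k * s * (u * s ^ k)⁻¹ * s⁻¹ = 1
      rw [he, ← hu]; simp
    · rw [dif_neg hy, if_neg hy, Nat.cast_zero, zero_mul]
  rw [hF0, Pi.zero_apply, eq_comm, mul_eq_zero] at hcs
  refine hcs.elim (fun h => ?_) (irr_one_ne_zero β.2)
  have hmem : (1 : Γ) ∈ Finset.univ.filter fun y : Γ => y * s * y⁻¹ * s⁻¹ ∈ C := by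
    simp [C.one_mem]
  exact Finset.card_ne_zero.2 ⟨1, hmem⟩ (by exact_mod_cast h)

end CfsgLib.Glauberman.CyclicSign
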