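import Cfsg.Agent.Glauberman.Solvable
import Cfsg.Agent.CharactersDeep.Clifford

/-!
# Invariant characters over an invariant character of a normal subgroup

If a finite solvable group `S` acts coprimely on `G` and stabilises a normal subgroup `N`, every
invariant irreducible character of `N` lies under an invariant irreducible character of `G`.
The key step is that the Glauberman correspondence respects the relation "lies over".
-/

set_option autoImplicit false
set_option linter.style.haveILetI false
set_option linter.unusedSectionVars false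

namespace CfsgLib.Glauberman

open Cfsg CfsgLib.Blocks CfsgLib.OddOrderChar
open scoped ComplexConjugate

universe u v

/-- The action on a stable subgroup. -/
@[reducible] def stableAction (S : Type*) [Group S] {G : Type*} [Group G] [MulDistribMulAction S G]
    (N : Subgroup G) (hN : ∀ (s : S), ∀ x ∈ N, s • x ∈ N) : MulDistribMulAction S N where
  smul s x := ⟨s • (x : G), hN s x x.2⟩
  one_smul x := Subtype.ext (one_smul S (x : G))
  mul_smul s t x := Subtype.ext (mul_smul s t (x : G))
  smul_one s := Subtype.ext (show s • (1 : G) = 1 from smul_one s)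
  smul_mul s x y := Subtype.ext (smul_mul' s (x : G) (y : G))

section Lift

variable {P : Type*} [Group P] [Finite P] {G : Type*} [Group G] [Fintype G]
  [MulDistribMulAction P G] {p : ℕ} [Fact p.Prime]

/-- The automorphism of the fixed points given by conjugation with a fixed point. -/
def fixedConj (c : FixedPoints.subgroup P G) (N : Subgroup G) [N.Normal] : N ≃* N :=
  MulAut.conjNormal (c : G)

/-- Correspondence commutes with lying over, in the form needed for covering. -/
theorem over_of_rel (hP : IsPGroup p P) (hnd : ¬ p ∣ Nat.card G)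
    (C : Subgroup G) [Fintype C] (hC : ∀ g, g ∈ C ↔ ∀ s : P, s • g = g)
    (N : Subgroup G) [N.Normal] [Fintype N] [MulDistribMulAction P N]
    (hcompat : ∀ (s : P) (x : N), ((s • x : N) : G) = s • (x : G))
    (CN : Subgroup N) [Fintype CN] (hCN : ∀ x, x ∈ CN ↔ ∀ s : P, s • x = x)
    {θ : IrrCharacter N} (hθ : IsInv P (θ : N → ℂ)) {β : IrrCharacter CN} (hβ : Rel p CN θ β)
    {χ : IrrCharacter G} (hχ : IsInv P (χ : G → ℂ)) {γ : IrrCharacter C} (hγ : Rel p C χ γ)
    (hover : Cfsg.classInner
      (fun x : CN => (γ : C → ℂ) ⟨((x : N) : G), (hC _).2 fun s => by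
        rw [← hcompat, (hCN _).1 x.2]⟩) (β : CN → ℂ) ≠ 0) :
    Cfsg.classInner (fun x : N => (χ : G → ℂ) x) (θ : N → ℂ) ≠ 0 := by
  classical
  intro h0
  obtain ⟨M, hM⟩ := exists_isPModular p (Fact.out : p.Prime)
  haveI := IsPModular.isPrime hM
  haveI := charP_res hM
  have hndN : ¬ p ∣ Nat.card N := fun h => hnd (h.trans (Subgroup.card_subgroup_dvd_card N))
  have hndC := natCard_fixed_not_dvd hnd C
  let ι : CN → C := fun x => ⟨((x : N) : G), (hC _).2 fun s => by
    rw [← hcompat, (hCN _).1 x.2]⟩
  let ιh : CN →* C := MonoidHom.mk' ι fun _ _ => Subtype.ext rfl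
  -- the conjugates of `θ`
  let U : Finset (IrrCharacter N) :=
    Finset.univ.filter fun φ => ∃ g : G, (φ : N → ℂ) = conjBy N (θ : N → ℂ) g
  have hUmem : ∀ φ : IrrCharacter N, φ ∈ U ↔ ∃ g : G, (φ : N → ℂ) = conjBy N (θ : N → ℂ) g := by
    intro φ; simp [U]
  have hmem : ∀ {φ : IrrCharacter N} (x : G), φ ∈ U →
      irrCongr (MulAut.conjNormal (H := N) x) φ ∈ U := by
    intro φ x hφ
    obtain ⟨g, hg⟩ := (hUmem φ).1 hφ
    refine (hUmem _).2 ⟨g * x, funext fun n => ?_⟩
    rw [irrCongr_apply, hg]
    simp only [conjBy]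
    refine congrArg (θ : N → ℂ) (Subtype.ext ?_)
    simp only [MulAut.conjNormal_apply]
    group
  have hmemP : ∀ {φ : IrrCharacter N} (s : P), φ ∈ U →
      irrCongr (MulDistribMulAction.toMulEquiv N s) φ ∈ U := by
    intro φ s hφ
    obtain ⟨g, hg⟩ := (hUmem φ).1 hφ
    refine (hUmem _).2 ⟨s⁻¹ • g, funext fun n => ?_⟩
    rw [irrCongr_apply, hg]
    simp only [conjBy]
    conv_rhs => rw [← hθ s]
    refine congrArg (θ : N → ℂ) (Subtype.ext ?_)
    simp only [hcompat, smul_mul', smul_inv', smul_inv_smul]
    exact congrArg (fun y => g * y * g⁻¹) (hcompat s n)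
  let w : N → Res M := fun x => ∑ φ ∈ U, (idem hM hndN φ : MonoidAlgebra (Res M) N).coeff x
  have hidem : ∀ (e : N ≃* N) (φ : IrrCharacter N) (x : N),
      (idem hM hndN φ : MonoidAlgebra (Res M) N).coeff (e x) =
        (idem hM hndN (irrCongr e φ) : MonoidAlgebra (Res M) N).coeff x := by
    intro e φ x
    simp only [idem, coeff_idemBar]
    congr 2
    simp [Cfsg.blockCoeff, irrCongr_apply]
  have hsumeq : ∀ (e : N ≃* N), (∀ φ ∈ U, irrCongr e φ ∈ U) → ∀ x, w (e x) = w x := by
    intro e he x
    refine Finset.sum_bij (fun φ _ => irrCongr e φ) (fun φ hφ => he φ hφ)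
      (fun a _ b _ h => (irrCongr e).injective h) ?_ (fun φ _ => hidem e φ x)
    intro b hb
    have hbij : U.image (irrCongr e) = U :=
      Finset.eq_of_subset_of_card_le (Finset.image_subset_iff.2 he)
        (by rw [Finset.card_image_of_injective _ (irrCongr e).injective])
    obtain ⟨a, ha, rfl⟩ := Finset.mem_image.1 (hbij.symm ▸ hb)
    exact ⟨a, ha, rfl⟩
  let f : G → Res M := fun g => if h : g ∈ N then w ⟨g, h⟩ else 0
  let z : Ctr (Res M) G := ⟨ofFun f, mem_ctr_iff.2 fun g x => by
    simp only [coeff_ofFun, f]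
    by_cases hg : g ∈ N
    · rw [dif_pos hg, dif_pos (‹N.Normal›.conj_mem g hg x)]
      have := hsumeq (MulAut.conjNormal (H := N) x) (fun φ hφ => hmem x hφ) ⟨g, hg⟩
      rw [← this]
      congr 1
    · rw [dif_neg hg, dif_neg]
      intro h
      exact hg (by simpa [mul_assoc] using ‹N.Normal›.conj_mem _ h x⁻¹)⟩
  have hzinv : IsInvCtr P z := by
    intro s g
    simp only [z, coeff_ofFun, f]
    by_cases hg : g ∈ N
    · have hsg : s • g ∈ N := by
        have := (s • (⟨g, hg⟩ : N)).2
        rwa [hcompat] at this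
      rw [dif_pos hsg, dif_pos hg]
      rw [← hsumeq (MulDistribMulAction.toMulEquiv N s) (fun φ hφ => hmemP s hφ) ⟨g, hg⟩]
      congr 1
      exact Subtype.ext (hcompat s ⟨g, hg⟩).symm
    · rw [dif_neg hg, dif_neg]
      intro h
      apply hg
      have := (s⁻¹ • (⟨s • g, h⟩ : N)).2
      rwa [hcompat, inv_smul_smul] at this
  -- `z` annihilates `χ`
  have hz0 : omegaBar M χ z = 0 := by
    obtain ⟨a, -, ha⟩ := Characters.exists_degree_pos χ.2
    refine (mul_eq_zero.1 ?_).resolve_left (degree_red_ne_zero hM hnd χ a ha)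
    rw [omegaBar_eq_sum χ a ha, ← Fintype.sum_subtype_add_sum_subtype (· ∈ N),
      Finset.sum_eq_zero (fun x _ => by simp [z, f, x.2] : ∀ x ∈ (Finset.univ :
        Finset {x // ¬ x ∈ N}), _ = (0 : Res M)), add_zero]
    have hval : ∀ x : N, Cfsg.MemLocalRing M ((χ : G → ℂ) (x : G)) := fun x =>
      memLocalRing_of_isIntegral
        (Characters.character_isIntegral (Characters.isCharacter_of_isIrr χ.2) _)
    have e : ∀ x : {x // x ∈ N}, (z : MonoidAlgebra (Res M) G).coeff x.1 *
        red M ⟨(χ : G → ℂ) x.1, hval x⟩ = ∑ φ ∈ U, red M (⟨Cfsg.blockCoeff {φ} x,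
          memLocalRing_blockCoeff (isBlockUnion_singleton hM hndN φ) x⟩ *
            ⟨(χ : G → ℂ) x.1, hval x⟩) := by
      intro x
      simp only [z, coeff_ofFun, f, dif_pos x.2, w, Finset.sum_mul, map_mul]
      exact Finset.sum_congr rfl fun φ _ => by simp [idem, coeff_idemBar]
    rw [Finset.sum_congr rfl fun x _ => e x, Finset.sum_comm]
    refine Finset.sum_eq_zero fun φ hφ => ?_
    rw [← map_sum, ← map_zero (red M)]
    congr 1
    refine Subtype.ext ?_
    push_cast
    obtain ⟨g, hg⟩ := (hUmem φ).1 hφ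
    have h1 : Cfsg.classInner (fun x : N => (χ : G → ℂ) x) (φ : N → ℂ) = 0 := by
      rw [hg, CharactersDeep.Clifford.classInner_restrict_conjBy N
        (Characters.isClassFunction_of_isIrr χ.2), h0]
    calc _ = ∑ x : N, Cfsg.blockCoeff {φ} x * (χ : G → ℂ) x :=
          Finset.sum_congr (by ext; simp) fun _ _ => rfl
      _ = (φ : N → ℂ) 1 * Cfsg.classInner (fun x : N => (χ : G → ℂ) x) (φ : N → ℂ) := by
          simp only [Cfsg.blockCoeff, finsum_mem_singleton, Cfsg.classInner, Finset.mul_sum]
          exact Finset.sum_congr rfl fun x _ => by ring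
      _ = 0 := by rw [h1, mul_zero]
  -- hence its Brauer image annihilates `γ`
  have hbz : omegaBar M γ (br (Res M) C z) = 0 := by
    have hb := (rel_iff_bRel hP hnd C hC hM hχ γ).1 hγ
    have h1 := br_mul hP C hC hzinv (isInvCtr_idem hnd hM hχ)
    rw [mul_idem hM hnd, hz0, map_zero, zero_mul, br_zero] at h1
    have := congrArg (omegaBar M γ) h1
    rwa [map_zero, map_mul, hb, mul_one, eq_comm] at this
  -- but it acts as the identity
  obtain ⟨b, -, hb⟩ := Characters.exists_degree_pos γ.2
  have hb0 := degree_red_ne_zero hM hndC γ b hb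
  refine hb0 ?_
  have hkey : (b : Res M) * omegaBar M γ (br (Res M) C z) = b := by
    -- the correspondents of the fixed members of `U`
    have hpi : ∀ φ : {φ : IrrCharacter N // IsInv P (φ : N → ℂ)},
        ∃! δ : IrrCharacter CN, Rel p CN φ.1 δ := fun φ => existsUnique_rel hP hndN CN hCN φ.2
    choose pi hpi hpiu using hpi
    let U' : Finset {φ : IrrCharacter N // IsInv P (φ : N → ℂ)} :=
      Finset.univ.filter fun φ => φ.1 ∈ U
    let V : Finset (IrrCharacter CN) := U'.image pi
    have hpiinj : ∀ φ ∈ U', ∀ φ' ∈ U', pi φ = pi φ' → φ = φ' := fun φ _ φ' _ h =>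
      Subtype.ext (rel_left_unique hP hndN CN hCN φ.2 φ'.2 (hpi φ) (h ▸ hpi φ'))
    have hgch : Cfsg.IsCharacter CN (fun x => (γ : C → ℂ) (ιh x)) :=
      Characters.isCharacter_comp ιh (Characters.isCharacter_of_isIrr γ.2)
    -- all constituents of `γ` on `CN` lie in `V`
    have hV : ∀ δ : IrrCharacter CN, δ ∉ V →
        Cfsg.classInner (fun x => (γ : C → ℂ) (ιh x)) (δ : CN → ℂ) = 0 := by
      intro δ hδ
      by_contra hne
      let R : Subgroup C := N.subgroupOf C
      haveI : R.Normal := inferInstance
      let eR : R ≃* CN :=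
        { toFun := fun x => ⟨⟨((x : C) : G), x.2⟩, (hCN _).2 fun s =>
            Subtype.ext (by rw [hcompat]; exact (hC _).1 x.1.2 s)⟩
          invFun := fun x => ⟨ι x, (x : N).2⟩
          left_inv := fun x => rfl
          right_inv := fun x => rfl
          map_mul' := fun x y => rfl }
      have hres : ∀ ε : IrrCharacter CN,
          Cfsg.classInner (fun x : R => (γ : C → ℂ) x) (irrCongr eR ε : R → ℂ) =
            Cfsg.classInner (fun x => (γ : C → ℂ) (ιh x)) (ε : CN → ℂ) := fun ε =>
        classInner_comp eR (fun x => (γ : C → ℂ) (ιh x)) (ε : CN → ℂ)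
      obtain ⟨c, hc⟩ := CharactersDeep.Clifford.exists_conjBy_of_constituents R γ.2
        (irrCongr eR β).2 (irrCongr eR δ).2 (by rw [hres]; exact hover) (by rw [hres]; exact hne)
      have hcfix : ∀ s : P, s • (c : G) = c := (hC _).1 c.2
      let a : N ≃* N := MulAut.conjNormal (H := N) (c : G)
      have hcomm : ∀ (s : P) (x : N), a (s • x) = s • a x := fun s x =>
        Subtype.ext (by simp [a, hcompat, smul_mul', smul_inv', hcfix s])
      have hinv : IsInv P (irrCongr a θ : N → ℂ) := fun s x => by
        rw [irrCongr_apply, irrCongr_apply, hcomm, hθ]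
      let a' : CN ≃* CN :=
        { toFun := fun x => ⟨a x, (hCN _).2 fun s => by rw [← hcomm, (hCN _).1 x.2]⟩
          invFun := fun x => ⟨a.symm x, (hCN _).2 fun s => a.injective (by
            rw [hcomm, MulEquiv.apply_symm_apply, (hCN _).1 x.2])⟩
          left_inv := fun x => Subtype.ext (a.symm_apply_apply _)
          right_inv := fun x => Subtype.ext (a.apply_symm_apply _)
          map_mul' := fun x y => Subtype.ext (map_mul a (x : N) (y : N)) }
      have hrel : Rel p CN (irrCongr a θ) δ := by
        obtain ⟨m, hm, hd⟩ := hβ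
        refine ⟨m, ?_, hd⟩
        rw [← hm, ← classInner_comp a' (fun x : CN => (θ : N → ℂ) x) (β : CN → ℂ)]
        congr 1
        funext x
        have h2 := congrFun hc (eR.symm x)
        simp only [irrCongr_apply, conjBy, MulEquiv.apply_symm_apply] at h2
        exact h2
      have hmemU : irrCongr a θ ∈ U :=
        hmem (c : G) ((hUmem θ).2 ⟨1, funext fun n => by simp [conjBy]⟩)
      exact hδ (Finset.mem_image.2 ⟨⟨_, hinv⟩, by simp [U', hmemU],
        (hpiu ⟨_, hinv⟩ δ hrel).symm⟩)
    -- coefficients of `br z`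
    have hcoeff : ∀ x : CN, w x =
        ∑ δ ∈ V, (idem hM (natCard_fixed_not_dvd hndN CN) δ : MonoidAlgebra (Res M) CN).coeff x := by
      intro x
      letI := irrAction P N
      have hw : w x = ∑ φ : IrrCharacter N,
          if φ ∈ U then (idem hM hndN φ : MonoidAlgebra (Res M) N).coeff x else 0 := by
        rw [← Finset.sum_filter]
        exact Finset.sum_congr (by ext; simp) fun _ _ => rfl
      rw [hw, sum_eq_sum_fixed hP (fun φ : IrrCharacter N => IsInv P (φ : N → ℂ)) isInv_iff_twist,
        Finset.sum_image hpiinj, ← Finset.sum_filter]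
      · refine Finset.sum_congr rfl fun φ _ => ?_
        rw [← br_idem_eq hP hndN CN hCN hM φ.2
          ((rel_iff_bRel hP hndN CN hCN hM φ.2 _).1 (hpi φ)), coeff_br]
      · intro s φ
        have htw : twist s φ = irrCongr (MulDistribMulAction.toMulEquiv N s⁻¹) φ :=
          Subtype.ext (funext fun _ => rfl)
        show (if twist s φ ∈ U then _ else _) = _
        have hiff : twist s φ ∈ U ↔ φ ∈ U := by
          refine ⟨fun h => ?_, fun h => htw ▸ hmemP s⁻¹ h⟩
          have h2 := hmemP s h
          rw [htw] at h2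
          convert h2 using 1
          exact Subtype.ext (funext fun n => by simp [irrCongr_apply])
        by_cases hφ : φ ∈ U
        · rw [if_pos (hiff.2 hφ), if_pos hφ]
          exact red_apply_fixed hndN CN hCN hM s φ x
        · rw [if_neg (fun h => hφ (hiff.1 h)), if_neg hφ]
    rw [omegaBar_eq_sum γ b hb, ← Fintype.sum_subtype_add_sum_subtype (fun c : C => (c : G) ∈ N),
      Finset.sum_eq_zero (fun x _ => by simp [z, f, x.2] : ∀ x ∈ (Finset.univ :
        Finset {c : C // ¬ (c : G) ∈ N}), _ = (0 : Res M)), add_zero]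
    let eN : CN ≃ {c : C // (c : G) ∈ N} :=
      { toFun := fun x => ⟨ι x, (x : N).2⟩
        invFun := fun c => ⟨⟨c.1.1, c.2⟩, (hCN _).2 fun s =>
          Subtype.ext (by rw [hcompat]; exact (hC _).1 c.1.2 s)⟩
        left_inv := fun x => rfl
        right_inv := fun c => rfl }
    rw [← Equiv.sum_comp eN]
    have hndCN := natCard_fixed_not_dvd hndN CN
    have hgv : ∀ x : CN, Cfsg.MemLocalRing M ((γ : C → ℂ) (ι x)) := fun x =>
      memLocalRing_of_isIntegral
        (Characters.character_isIntegral (Characters.isCharacter_of_isIrr γ.2) _)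
    let L : localRing M := ∑ x : CN, ∑ δ ∈ V,
      (⟨Cfsg.blockCoeff {δ} x, memLocalRing_blockCoeff (isBlockUnion_singleton hM hndCN δ) x⟩ :
        localRing M) * ⟨(γ : C → ℂ) (ι x), hgv x⟩
    have hL : L = b := by
      refine Subtype.ext ?_
      simp only [L]
      push_cast
      have hexp := congrFun (Characters.character_expansion hgch) 1
      simp only [Finset.sum_apply, Pi.smul_apply, smul_eq_mul, map_one] at hexp
      rw [← hb, hexp, Finset.sum_comm, ← Finset.sum_subset (Finset.subset_univ V)
        (fun δ _ hδ => by rw [hV δ hδ, zero_mul])]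
      refine Finset.sum_congr rfl fun δ _ => ?_
      simp only [Cfsg.blockCoeff, finsum_mem_singleton, Cfsg.classInner, Finset.mul_sum,
        Finset.sum_mul]
      exact Finset.sum_congr rfl fun x _ => by
        simp only [ιh, MonoidHom.mk'_apply]
        ring
    rw [← map_natCast (red M), ← hL]
    simp only [L, map_sum, map_mul]
    refine Finset.sum_congr rfl fun x _ => ?_
    rw [← Finset.sum_mul]
    congr 1
    have hx : (br (Res M) C z : MonoidAlgebra (Res M) C).coeff (eN x).1 = w x := by
      simp [z, f, eN, ι]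
    rw [hx, hcoeff x]
    exact Finset.sum_congr rfl fun δ _ => by simp [idem, coeff_idemBar]
  rw [hbz, mul_zero] at hkey
  exact hkey.symm

end Lift

/-- Invariant characters of a stable normal subgroup lie under invariant characters. -/
theorem exists_inv_over (n : ℕ) : ∀ (S : Type u) [Group S] [Finite S] [Group.IsSolvable S]
    (G : Type v) [Group G] [Fintype G] [MulDistribMulAction S G] (N : Subgroup G) [N.Normal]
    [Fintype N], Nat.card S = n → (Nat.card G).Coprime (Nat.card S) →
    (∀ (s : S), ∀ x ∈ N, s • x ∈ N) → ∀ θ : IrrCharacter N,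
    (∀ (s : S) (x y : N), (y : G) = s • (x : G) → (θ : N → ℂ) y = (θ : N → ℂ) x) →
    ∃ χ : IrrCharacter G, IsInv S (χ : G → ℂ) ∧
      Cfsg.classInner (fun x : N => (χ : G → ℂ) x) (θ : N → ℂ) ≠ 0 := by
  induction n using Nat.strong_induction_on with
  | _ n ih =>
    intro S _ _ _ G _ _ _ N _ _ hn hcop hN θ hθ
    by_cases h1 : Nat.card S = 1
    · haveI := (Nat.card_eq_one_iff_unique.1 h1).1
      obtain ⟨χ, hχ, hne⟩ := CharactersDeep.Clifford.exists_over N θ.2
      exact ⟨⟨χ, hχ⟩, fun s g => by rw [Subsingleton.elim s 1, one_smul], hne⟩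
    · obtain ⟨p, T, hp, hTn, hTne, hTp⟩ := exists_normal_pGroup h1
      haveI := hTn
      haveI : Fact p.Prime := ⟨hp⟩
      have hnd := prime_not_dvd_of_coprime hp hTne hTp hcop
      have hndN : ¬ p ∣ Nat.card N := fun h => hnd (h.trans (Subgroup.card_subgroup_dvd_card N))
      letI := stableAction S N hN
      have hθS : IsInv S (θ : N → ℂ) := fun s x => hθ s x _ rfl
      haveI : Fintype (FixedPoints.subgroup T N) := Fintype.ofFinite _
      haveI : Fintype (FixedPoints.subgroup T G) := Fintype.ofFinite _
      set CN := FixedPoints.subgroup T N with hCNdef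
      set C := FixedPoints.subgroup T G with hCdef
      have hC := mem_fixedPoints_subgroup (S := T) (G := G)
      have hCN := mem_fixedPoints_subgroup (S := T) (G := N)
      obtain ⟨β, hβ, hβu⟩ := existsUnique_rel hTp hndN CN hCN (isInv_subgroup T hθS)
      haveI : Fintype (N.subgroupOf C) := Fintype.ofFinite _
      let e : N.subgroupOf C ≃* CN :=
        { toFun := fun x => ⟨⟨((x : C) : G), x.2⟩, fun t => Subtype.ext (x.1.2 t)⟩
          invFun := fun x => ⟨⟨((x : N) : G), fun t => congrArg Subtype.val (x.2 t)⟩, (x : N).2⟩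
          left_inv := fun x => rfl
          right_inv := fun x => rfl
          map_mul' := fun x y => rfl }
      have hβinv : ∀ (s : S ⧸ T) (x y : N.subgroupOf C), (y : C) = s • (x : C) →
          (irrCongr e β : N.subgroupOf C → ℂ) y = (irrCongr e β : N.subgroupOf C → ℂ) x := by
        intro s x y hxy
        induction s using QuotientGroup.induction_on with
        | H s =>
          have := congrFun (congrArg Subtype.val (hβu _ (rel_smul T hθS s hβ))) (e x)
          rw [irrCongr_apply] at this
          rw [irrCongr_apply, irrCongr_apply, ← this]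
          have h2 : ((y : C) : G) = ((((s : S ⧸ T) • (x : C)) : C) : G) := by rw [hxy]
          exact congrArg (β : CN → ℂ) (Subtype.ext (Subtype.ext h2))
      have hstab : ∀ (s : S ⧸ T), ∀ x ∈ N.subgroupOf C, s • x ∈ N.subgroupOf C := by
        intro s x hx
        induction s using QuotientGroup.induction_on with
        | H s => exact hN s _ hx
      obtain ⟨γ, hγinv, hγover⟩ := ih _ (hn ▸ card_quotient_lt T hTne) (S ⧸ T) C (N.subgroupOf C)
        rfl ((hcop.coprime_dvd_left (Subgroup.card_subgroup_dvd_card _)).coprime_dvd_right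
          (Subgroup.card_quotient_dvd_card T)) hstab (irrCongr e β) hβinv
      obtain ⟨χ, hχT, hr⟩ := exists_rel_left hTp hnd C hC γ
      refine ⟨χ, isInv_of_rel T hTp hnd hχT hγinv hr, over_of_rel hTp hnd C hC N
        (fun t x => rfl) CN hCN (isInv_subgroup T hθS) hβ hχT hr ?_⟩
      intro h0
      refine hγover ?_
      rw [← h0]
      exact classInner_comp e (fun x : CN => (γ : C → ℂ) (e.symm x : C)) (β : CN → ℂ)

end CfsgLib.Glauberman
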