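import Cfsg.Agent.Glauberman.CentralSection
import Cfsg.Agent.RelGlauberman.Correspondence

/-!
# Invariant characters over an invariant character, relatively coprime action

`S` normalises `G` and `N`, `N ≤ S`, `|S : N|` is prime to `|G : N|`, and `S ⧸ N` or `G ⧸ N` is
solvable: every invariant `θ` of `N` lies under an `S`-invariant character of `G`.
-/

set_option autoImplicit false
set_option linter.style.haveILetI false
set_option linter.unusedSectionVars false

namespace CfsgLib.Glauberman.RelativeInvariant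

open Cfsg CfsgLib.Characters CfsgLib.OddOrderChar CfsgLib.RelGlauberman
open scoped ComplexConjugate Classical

variable {Γ : Type*} [Group Γ] [Finite Γ]

noncomputable local instance instFintypeSub (H : Subgroup Γ) : Fintype H := Fintype.ofFinite H
noncomputable local instance instFintypeIrr (H : Subgroup Γ) : Fintype (Cfsg.IrrCharacter H) :=
  Fintype.ofFinite _

theorem multNat_ne_zero_iff {G N : Subgroup Γ} (hNG : N ≤ G) (χ : IrrCharacter G)
    (θ : IrrCharacter N) : multNat hNG χ θ ≠ 0 ↔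
      Cfsg.classInner (fun n : N => (χ : G → ℂ) ⟨n, hNG n.2⟩) (θ : N → ℂ) ≠ 0 := by
  have h := (multRes_eq_classInner hNG (χ : G → ℂ) (θ : N → ℂ)).symm.trans (multNat_spec hNG χ θ)
  rw [show (fun n : N => (χ : G → ℂ) ⟨n, hNG n.2⟩) =
    fun n : N => (χ : G → ℂ) (Subgroup.inclusion hNG n) from rfl, h, Nat.cast_ne_zero]

theorem classInner_irrec {A B : Type*} [Group A] [Group B] [Fintype A] [Fintype B] (e : A ≃* B)
    (φ ψ : B → ℂ) :
    Cfsg.classInner (fun a => φ (e a)) (fun a => ψ (e a)) = Cfsg.classInner φ ψ :=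
  CfsgLib.Glauberman.classInner_comp e φ ψ

/-- An element centralising `G ⧸ N`, of order prime to `|G : N|` modulo `N`, fixes every
character of `G` over `θ`. -/
theorem fixed_of_central (G N : Subgroup Γ) (hNG : N ≤ G)
    (hNn : ∀ g ∈ G, ∀ n ∈ N, g * n * g⁻¹ ∈ N) (x : Γ)
    (hxG : Normalises (Subgroup.zpowers x) G) (hxN : Normalises (Subgroup.zpowers x) N)
    (hcent : ∀ g ∈ G, x * g * x⁻¹ * g⁻¹ ∈ N) {m : ℕ} (hm : x ^ m ∈ N)
    (hcop : m.Coprime (N.relIndex G)) (θ : IrrCharacter N)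
    (hθG : PInv G N (θ : N → ℂ)) (hθx : PInv (Subgroup.zpowers x) N (θ : N → ℂ))
    (χ : IrrCharacter G) (hover : multNat hNG χ θ ≠ 0) :
    ∀ k k' : G, (k' : Γ) = x * k * x⁻¹ → (χ : G → ℂ) k' = (χ : G → ℂ) k := by
  classical
  haveI := Fintype.ofFinite Γ
  set X := Subgroup.zpowers x with hX
  set W := G ⊔ X with hW
  set U := N ⊔ X with hU
  have hGW : G ≤ W := le_sup_left
  have hUW : U ≤ W := sup_le (hNG.trans hGW) le_sup_right
  have hNW : N ≤ W := hNG.trans hGW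
  have hnorm : ∀ {A B : Subgroup Γ}, Normalises A B → A ≤ Subgroup.normalizer (B : Set Γ) :=
    fun {A B} h a ha => Subgroup.mem_normalizer_iff.2 fun g => ⟨h a ha g, fun hg => by
      simpa [mul_assoc] using h a⁻¹ (A.inv_mem ha) _ hg⟩
  have hWN : W ≤ Subgroup.normalizer (N : Set Γ) := sup_le (hnorm hNn) (hnorm hxN)
  have hWG : W ≤ Subgroup.normalizer (G : Set Γ) := sup_le Subgroup.le_normalizer (hnorm hxG)
  have hUN : U ≤ Subgroup.normalizer (N : Set Γ) := hUW.trans hWN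
  have hWU : W ≤ Subgroup.normalizer (U : Set Γ) := by
    refine sup_le (fun g hg => ?_)
      ((le_sup_right : X ≤ U).trans Subgroup.le_normalizer)
    -- an element of `G` normalises `U`
    have key : ∀ y ∈ G, ∀ u ∈ U, y * u * y⁻¹ ∈ U := by
      intro y hy u hu
      obtain ⟨n, hn, z, hz, rfl⟩ := CfsgLib.Coprime.exists_mul_of_mem_sup (hnorm hxN) hu
      have hz' : y * z * y⁻¹ * z⁻¹ ∈ N := by
        -- the elements of `X` with this property form a subgroup
        let Z : Subgroup Γ :=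
          { carrier := {z | z ∈ X ∧ y * z * y⁻¹ * z⁻¹ ∈ N}
            one_mem' := ⟨X.one_mem, by simp⟩
            mul_mem' := fun {a b} ha hb => ⟨X.mul_mem ha.1 hb.1, by
              rw [show y * (a * b) * y⁻¹ * (a * b)⁻¹ =
                (y * a * y⁻¹ * a⁻¹) * (a * (y * b * y⁻¹ * b⁻¹) * a⁻¹) by group]
              exact N.mul_mem ha.2 (hxN a ha.1 _ hb.2)⟩
            inv_mem' := fun {a} ha => ⟨X.inv_mem ha.1, by
              rw [show y * a⁻¹ * y⁻¹ * a⁻¹⁻¹ = a⁻¹ * (y * a * y⁻¹ * a⁻¹)⁻¹ * a⁻¹⁻¹ by group]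
              exact hxN _ (X.inv_mem ha.1) _ (N.inv_mem ha.2)⟩ }
        have hxZ : x ∈ Z := ⟨Subgroup.mem_zpowers x, by
          rw [show y * x * y⁻¹ * x⁻¹ = (x * y * x⁻¹ * y⁻¹)⁻¹ by group]
          exact N.inv_mem (hcent y hy)⟩
        exact ((Subgroup.zpowers_le.2 hxZ) hz).2
      rw [show y * (n * z) * y⁻¹ = (y * n * y⁻¹) * ((y * z * y⁻¹ * z⁻¹) * z) by group]
      exact U.mul_mem ((le_sup_left : N ≤ U) (hNn y hy n hn))
        (U.mul_mem ((le_sup_left : N ≤ U) hz') ((le_sup_right : X ≤ U) hz))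
    exact Subgroup.mem_normalizer_iff.2 fun u => ⟨key g hg u, fun hu => by
      simpa [mul_assoc] using key g⁻¹ (G.inv_mem hg) _ hu⟩
  set G' := G.subgroupOf W with hG'
  set U' := U.subgroupOf W with hU'
  set N' := N.subgroupOf W with hN'
  haveI : G'.Normal := (Subgroup.normal_subgroupOf_iff_le_normalizer hGW).2 hWG
  haveI : U'.Normal := (Subgroup.normal_subgroupOf_iff_le_normalizer hUW).2 hWU
  haveI : N'.Normal := (Subgroup.normal_subgroupOf_iff_le_normalizer hNW).2 hWN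
  haveI : Fintype W := Fintype.ofFinite _
  haveI : Fintype G' := Fintype.ofFinite _
  haveI : Fintype N' := Fintype.ofFinite _
  let eN : N' ≃* N := Subgroup.subgroupOfEquivOfLe hNW
  let eG : G' ≃* G := Subgroup.subgroupOfEquivOfLe hGW
  -- `G ∩ U = N`
  have hpowN : ∀ j : ℤ, x ^ j ∈ G → x ^ j ∈ N := by
    intro j hj
    have h1 : (x ^ j) ^ m ∈ N := by
      rw [← zpow_natCast, ← zpow_mul, mul_comm, zpow_mul, zpow_natCast]
      exact N.zpow_mem hm j
    haveI : (N.subgroupOf G).Normal := ⟨fun n hn g => hNn g g.2 n hn⟩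
    have h2 : (x ^ j) ^ N.relIndex G ∈ N := Subgroup.pow_index_mem (N.subgroupOf G) ⟨x ^ j, hj⟩
    have hb := Nat.gcd_eq_gcd_ab m (N.relIndex G)
    rw [hcop, Nat.cast_one] at hb
    have : x ^ j = ((x ^ j) ^ m) ^ (Nat.gcdA m (N.relIndex G)) *
        ((x ^ j) ^ N.relIndex G) ^ (Nat.gcdB m (N.relIndex G)) := by
      rw [← zpow_natCast (x ^ j) m, ← zpow_natCast (x ^ j) (N.relIndex G), ← zpow_mul (x ^ j),
        ← zpow_mul (x ^ j), ← zpow_add (x ^ j), ← hb, zpow_one]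
    rw [this]
    exact N.mul_mem (N.zpow_mem h1 _) (N.zpow_mem h2 _)
  have hinf : G' ⊓ U' = N' := by
    refine le_antisymm (fun w hw => ?_) (le_inf (fun w hw => hNG hw) fun w hw =>
      (le_sup_left : N ≤ U) hw)
    obtain ⟨n, hn, z, hz, hnz⟩ := CfsgLib.Coprime.exists_mul_of_mem_sup (hnorm hxN)
      (show (w : Γ) ∈ N ⊔ X from hw.2)
    obtain ⟨j, rfl⟩ := Subgroup.mem_zpowers_iff.1 hz
    have hjG : x ^ j ∈ G := by
      rw [show x ^ j = n⁻¹ * (w : Γ) by rw [← hnz]; group]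
      exact G.mul_mem (G.inv_mem (hNG hn)) hw.1
    show (w : Γ) ∈ N
    rw [← hnz]
    exact N.mul_mem hn (hpowN j hjG)
  have htop : G' ⊔ U' = ⊤ := by
    rw [hG', hU', ← Subgroup.subgroupOf_sup hGW hUW, Subgroup.subgroupOf_eq_top]
    exact sup_le_sup_left le_sup_right G
  have hxU : x ∈ U := (le_sup_right : X ≤ U) (Subgroup.mem_zpowers x)
  let xU : U' := ⟨⟨x, hUW hxU⟩, hxU⟩
  have hgen : ∀ q : U' ⧸ N'.subgroupOf U', q ∈ Subgroup.zpowers (xU : U' ⧸ N'.subgroupOf U') := by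
    intro q
    obtain ⟨u, rfl⟩ := QuotientGroup.mk_surjective q
    obtain ⟨n, hn, z, hz, hnz⟩ := CfsgLib.Coprime.exists_mul_of_mem_sup (hnorm hxN)
      (show ((u : W) : Γ) ∈ N ⊔ X from u.2)
    obtain ⟨j, rfl⟩ := Subgroup.mem_zpowers_iff.1 hz
    refine Subgroup.mem_zpowers_iff.2 ⟨j, ?_⟩
    rw [← QuotientGroup.mk_zpow, QuotientGroup.eq]
    show (((xU ^ j : U') : W) : Γ)⁻¹ * ((u : W) : Γ) ∈ N
    rw [← hnz, SubgroupClass.coe_zpow, SubgroupClass.coe_zpow, ← mul_assoc]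
    simpa [xU] using hxN _ (X.inv_mem (Subgroup.zpow_mem_zpowers x j)) n hn
  have hcyc : IsCyclic (U' ⧸ N'.subgroupOf U') := ⟨⟨_, hgen⟩⟩
  have hcop' : (N'.relIndex U').Coprime (N'.relIndex G') := by
    refine (hcop.coprime_dvd_left ?_).coprime_dvd_right ?_
    · rw [Subgroup.relIndex, Subgroup.index_eq_card, ← orderOf_eq_card_of_forall_mem_zpowers hgen]
      refine orderOf_dvd_of_pow_eq_one ?_
      rw [← QuotientGroup.mk_pow, QuotientGroup.eq_one_iff]
      show (((xU ^ m : U') : W) : Γ) ∈ N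
      simpa [xU] using hm
    · rw [hN', hG', Subgroup.relIndex_subgroupOf hGW]
  let θ' : IrrCharacter N' := CfsgLib.Glauberman.irrCongr eN θ
  let χ' : IrrCharacter G' := CfsgLib.Glauberman.irrCongr eG χ
  have hθ' : ∀ y, conjBy N' (θ' : N' → ℂ) y = θ' := by
    intro y
    funext n
    obtain ⟨g, hg, z, hz, hgz⟩ := CfsgLib.Coprime.exists_mul_of_mem_sup (hnorm hxG)
      (show (y : Γ) ∈ G ⊔ X from y.2)
    have hzn : z * (eN n : Γ) * z⁻¹ ∈ N := hxN z hz _ (eN n).2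
    refine Eq.trans ?_ ((hθG g hg ⟨_, hzn⟩ ⟨g * (z * (eN n : Γ) * z⁻¹) * g⁻¹,
      hNn g hg _ hzn⟩ rfl).trans (hθx z hz (eN n) ⟨_, hzn⟩ rfl))
    refine congrArg (θ : N → ℂ) (Subtype.ext ?_)
    show (y : Γ) * ((n : W) : Γ) * (y : Γ)⁻¹ = g * (z * ((n : W) : Γ) * z⁻¹) * g⁻¹
    rw [← hgz]; group
  have hover' : Cfsg.classInner (fun n : N' => (χ' : G' → ℂ) ⟨n, hNG n.2⟩) (θ' : N' → ℂ) ≠ 0 := by
    rw [multNat_ne_zero_iff] at hover
    intro h0
    exact hover ((classInner_irrec eN (fun n : N => (χ : G → ℂ) ⟨n, hNG n.2⟩) (θ : N → ℂ)).symm.trans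
      h0)
  have hfix := CentralSection.conjBy_eq G' U' N' (fun w hw => hNG hw) hinf htop hcyc hcop' θ' hθ'
    χ' hover' ⟨x, hUW hxU⟩
  intro k k' hk
  have := congrFun hfix (eG.symm k)
  refine Eq.trans ?_ this
  exact congrArg (χ : G → ℂ) (Subtype.ext hk)

/-- Some character lies over `θ`. -/
theorem exists_over (G N : Subgroup Γ) (hNG : N ≤ G) (hNn : ∀ g ∈ G, ∀ n ∈ N, g * n * g⁻¹ ∈ N)
    (θ : IrrCharacter N) : ∃ χ : IrrCharacter G, multNat hNG χ θ ≠ 0 := by
  haveI : (N.subgroupOf G).Normal := ⟨fun n hn g => hNn g g.2 n hn⟩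
  haveI : Fintype (N.subgroupOf G) := Fintype.ofFinite _
  let e : N.subgroupOf G ≃* N := Subgroup.subgroupOfEquivOfLe hNG
  obtain ⟨χ, hχ, hne⟩ := CharactersDeep.Clifford.exists_over (N.subgroupOf G)
    (CfsgLib.Glauberman.irrCongr e θ).2
  refine ⟨⟨χ, hχ⟩, (multNat_ne_zero_iff hNG _ θ).2 fun h0 => hne ?_⟩
  rw [← h0]
  exact classInner_irrec e (fun n : N => χ ⟨n, hNG n.2⟩) (θ : N → ℂ)

theorem multNat_trans_ne_zero {G M N : Subgroup Γ} (hNM : N ≤ M) (hMG : M ≤ G)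
    (χ : IrrCharacter G) (ψ : IrrCharacter M) (θ : IrrCharacter N) (h₁ : multNat hMG χ ψ ≠ 0)
    (h₂ : multNat hNM ψ θ ≠ 0) : multNat (hNM.trans hMG) χ θ ≠ 0 := by
  rw [multNat_trans hNM hMG χ θ]
  exact fun h0 => Nat.mul_ne_zero h₁ h₂ (Finset.sum_eq_zero_iff.1 h0 ψ (Finset.mem_univ _))

/-- The case of a solvable acting section: by the relative Glauberman correspondence. -/
theorem exists_inv_of_solvable (n : ℕ) : ∀ (S G N : Subgroup Γ), N.relIndex G = n →
    ∀ (hNG : N ≤ G), (∀ g ∈ G, ∀ x ∈ N, g * x * g⁻¹ ∈ N) → Normalises S G → Normalises S N →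
    N ≤ S → (N.relIndex S).Coprime (N.relIndex G) →
    (∀ [(N.subgroupOf S).Normal], Group.IsSolvable (S ⧸ N.subgroupOf S)) →
    ∀ θ : IrrCharacter N, PInv G N (θ : N → ℂ) → PInv S N (θ : N → ℂ) →
    ∃ χ : IrrCharacter G, PInv S G (χ : G → ℂ) ∧ multNat hNG χ θ ≠ 0 := by
  induction n using Nat.strong_induction_on with
  | _ n ih =>
    intro S G N hn hNG hNn hSG hSN hNS hcop hsolv θ hθG hθS
    subst hn
    set NS := N.subgroupOf S with hNSdef
    haveI : NS.Normal := ⟨fun x hx s => hSN s s.2 x hx⟩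
    haveI hsolv' : Group.IsSolvable (S ⧸ NS) := hsolv
    -- the kernel of the action on `G ⧸ N`
    let R : Subgroup S :=
      { carrier := {s | ∀ g ∈ G, (s : Γ) * g * (s : Γ)⁻¹ * g⁻¹ ∈ N}
        one_mem' := fun g _ => by simp
        mul_mem' := fun {a b} ha hb g hg => by
          rw [Subgroup.coe_mul, show (a : Γ) * b * g * ((a : Γ) * b)⁻¹ * g⁻¹ =
            (a : Γ) * ((b : Γ) * g * (b : Γ)⁻¹ * g⁻¹) * (a : Γ)⁻¹ *
              ((a : Γ) * g * (a : Γ)⁻¹ * g⁻¹) by group]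
          exact N.mul_mem (hSN a a.2 _ (hb g hg)) (ha g hg)
        inv_mem' := fun {a} ha g hg => by
          rw [Subgroup.coe_inv, show (a : Γ)⁻¹ * g * (a : Γ)⁻¹⁻¹ * g⁻¹ =
            (a : Γ)⁻¹ * ((a : Γ) * g * (a : Γ)⁻¹ * g⁻¹)⁻¹ * (a : Γ)⁻¹⁻¹ by group]
          exact hSN _ (S.inv_mem a.2) _ (N.inv_mem (ha g hg)) }
    haveI hRn : R.Normal := ⟨fun r hr s g hg => by
      rw [Subgroup.coe_mul, Subgroup.coe_mul, Subgroup.coe_inv,
        show (s : Γ) * r * (s : Γ)⁻¹ * g * ((s : Γ) * r * (s : Γ)⁻¹)⁻¹ * g⁻¹ = (s : Γ) *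
          ((r : Γ) * ((s : Γ)⁻¹ * g * (s : Γ)) * (r : Γ)⁻¹ * ((s : Γ)⁻¹ * g * (s : Γ))⁻¹) *
            (s : Γ)⁻¹ by group]
      refine hSN _ s.2 _ (hr _ ?_)
      simpa using hSG _ (S.inv_mem s.2) g hg⟩
    have hNR : NS ≤ R := fun r hr g hg => by
      have := N.mul_mem hr (hNn g hg _ (N.inv_mem hr))
      rwa [show (r : Γ) * g * (r : Γ)⁻¹ * g⁻¹ = (r : Γ) * (g * (r : Γ)⁻¹ * g⁻¹) by group]
    -- elements of `R` fix everything over `θ`
    have hRfix : ∀ r ∈ R, ∀ χ : IrrCharacter G, multNat hNG χ θ ≠ 0 →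
        ∀ k k' : G, (k' : Γ) = (r : Γ) * k * (r : Γ)⁻¹ → (χ : G → ℂ) k' = (χ : G → ℂ) k := by
      intro r hr χ hχ
      have hle : Subgroup.zpowers (r : Γ) ≤ S := Subgroup.zpowers_le.2 r.2
      exact fixed_of_central G N hNG hNn r (fun y hy => hSG y (hle hy))
        (fun y hy => hSN y (hle hy)) hr (m := N.relIndex S) (NS.pow_index_mem r) hcop θ hθG
        (fun y hy => hθS y (hle hy)) χ hχ
    by_cases hRtop : R = ⊤
    · obtain ⟨χ, hχ⟩ := exists_over G N hNG hNn θ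
      exact ⟨χ, fun s hs k k' hk => hRfix ⟨s, hs⟩ (hRtop ▸ Subgroup.mem_top _) χ hχ k k' hk, hχ⟩
    -- a `p`-section of the action
    haveI : Group.IsSolvable (S ⧸ R) :=
      Group.isSolvable_of_surjective (f := QuotientGroup.map NS R (MonoidHom.id S) hNR) fun q => by
        obtain ⟨s, rfl⟩ := QuotientGroup.mk_surjective q
        exact ⟨s, rfl⟩
    have hne : Nat.card (S ⧸ R) ≠ 1 := fun h1 => hRtop (Subgroup.index_eq_one.1 h1)
    obtain ⟨p, T₀, hp, hT₀n, hT₀ne, hT₀p⟩ := CfsgLib.Glauberman.exists_normal_pGroup hne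
    haveI := hT₀n
    haveI : Fact p.Prime := ⟨hp⟩
    set T : Subgroup S := T₀.comap (QuotientGroup.mk' R) with hT
    have hRT : R ≤ T := fun r hr => by
      show (r : S ⧸ R) ∈ T₀
      rw [(QuotientGroup.eq_one_iff r).2 hr]
      exact one_mem _
    haveI : T.Normal := Subgroup.Normal.comap hT₀n _
    obtain ⟨P₁⟩ := (inferInstance : Nonempty (Sylow p T))
    set P : Subgroup S := (P₁ : Subgroup T).map T.subtype with hP
    have hPp : IsPGroup p P := P₁.isPGroup'.map _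
    have hPT : P ≤ T := Subgroup.map_subtype_le _
    have hRPT : R ⊔ P = T := by
      refine le_antisymm (sup_le hRT hPT) (Subgroup.relIndex_eq_one.1 ?_)
      have h1 : (R ⊔ P).relIndex T ∣ R.relIndex T := Subgroup.relIndex_dvd_of_le_left T le_sup_left
      have h2 : (R ⊔ P).relIndex T ∣ P.relIndex T := Subgroup.relIndex_dvd_of_le_left T le_sup_right
      have h3 : P.relIndex T = (P₁ : Subgroup T).index := by
        rw [Subgroup.relIndex, hP, Subgroup.subgroupOf, Subgroup.comap_map_eq_self_of_injective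
          T.subtype_injective]
      have h4 : R.relIndex T = Nat.card T₀ := by
        refine (congrArg (fun A : Subgroup S => A.relIndex T) (show R =
          (⊥ : Subgroup (S ⧸ R)).comap (QuotientGroup.mk' R) by
            rw [MonoidHom.comap_bot, QuotientGroup.ker_mk'])).trans ?_
        rw [hT, Subgroup.relIndex_comap,
          Subgroup.map_comap_eq_self_of_surjective (QuotientGroup.mk'_surjective R),
          Subgroup.relIndex_bot_left]
      obtain ⟨e, he⟩ := IsPGroup.iff_card.1 hT₀p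
      refine Nat.eq_one_of_dvd_coprimes (Nat.Coprime.pow_left e
        (hp.coprime_iff_not_dvd.2 P₁.not_dvd_index)) (he ▸ h4 ▸ h1) (h3 ▸ h2)
    have hpidx : ¬ p ∣ N.relIndex G := fun hd => by
      refine hp.not_dvd_one (hcop ▸ Nat.dvd_gcd ?_ hd)
      obtain ⟨e, he⟩ := IsPGroup.iff_card.1 hT₀p
      have he0 : e ≠ 0 := fun h0 => hT₀ne (T₀.card_eq_one.1 (by rw [he, h0, pow_zero]))
      exact ((he ▸ dvd_pow_self p he0).trans T₀.card_subgroup_dvd_card).trans
        (Subgroup.index_dvd_of_le hNR)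
    set P' : Subgroup Γ := P.map S.subtype with hP'
    have hP'S : P' ≤ S := Subgroup.map_subtype_le P
    have hP'p : IsPGroup p P' := hPp.map _
    obtain ⟨C, hC⟩ := exists_fixedMod P' G N hNn
    have hCT : ∀ c ∈ C, ∀ t ∈ T, (t : Γ) * c * (t : Γ)⁻¹ * c⁻¹ ∈ N := by
      intro c hc t ht
      let Z : Subgroup S :=
        { carrier := {t | (t : Γ) * c * (t : Γ)⁻¹ * c⁻¹ ∈ N}
          one_mem' := by simp
          mul_mem' := fun {a b} ha hb => by
            show ((a * b : S) : Γ) * c * ((a * b : S) : Γ)⁻¹ * c⁻¹ ∈ N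
            rw [Subgroup.coe_mul, show (a : Γ) * b * c * ((a : Γ) * b)⁻¹ * c⁻¹ =
              (a : Γ) * ((b : Γ) * c * (b : Γ)⁻¹ * c⁻¹) * (a : Γ)⁻¹ *
                ((a : Γ) * c * (a : Γ)⁻¹ * c⁻¹) by group]
            exact N.mul_mem (hSN a a.2 _ hb) ha
          inv_mem' := fun {a} ha => by
            show ((a⁻¹ : S) : Γ) * c * ((a⁻¹ : S) : Γ)⁻¹ * c⁻¹ ∈ N
            rw [Subgroup.coe_inv, show (a : Γ)⁻¹ * c * (a : Γ)⁻¹⁻¹ * c⁻¹ =
              (a : Γ)⁻¹ * ((a : Γ) * c * (a : Γ)⁻¹ * c⁻¹)⁻¹ * (a : Γ)⁻¹⁻¹ by group]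
            exact hSN _ (S.inv_mem a.2) _ (N.inv_mem ha) }
      exact (show T ≤ Z from hRPT ▸ sup_le (fun r hr => hr c (hC.le hc))
        (fun y hy => ((hC c).1 hc).2 _ ⟨y, hy, rfl⟩)) ht
    have hNC : N ≤ C := fun x hx => (hC x).2 ⟨hNG hx, fun y hy =>
      N.mul_mem (hSN y (hP'S hy) x hx) (N.inv_mem hx)⟩
    have hSC : Normalises S C := by
      intro s hs c hc
      refine (hC _).2 ⟨hSG s hs c (hC.le hc), ?_⟩
      rintro _ ⟨y, hy, rfl⟩
      have ht := hCT c hc ((⟨s, hs⟩ : S)⁻¹ * y * (⟨s, hs⟩ : S)) (by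
        simpa using Subgroup.Normal.conj_mem (inferInstance : T.Normal) y (hPT hy) (⟨s, hs⟩ : S)⁻¹)
      have := hSN s hs _ ht
      simpa [mul_assoc] using this
    have hClt : N.relIndex C < N.relIndex G := by
      rw [← Subgroup.relIndex_mul_relIndex N C G hNC hC.le]
      refine lt_mul_of_one_lt_right (Nat.pos_of_ne_zero Subgroup.index_ne_zero_of_finite) ?_
      have h0 : C.relIndex G ≠ 0 := Subgroup.index_ne_zero_of_finite
      have h1 : C.relIndex G ≠ 1 := fun h1 => by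
        have hGC : G ≤ C := Subgroup.relIndex_eq_one.1 h1
        have hPR : P ≤ R := fun y hy g hg => ((hC g).1 (hGC hg)).2 _ ⟨y, hy, rfl⟩
        have hTR : T = R := by rw [← hRPT, sup_eq_left.2 hPR]
        refine hT₀ne (eq_bot_iff.2 fun q hq => ?_)
        obtain ⟨s, rfl⟩ := QuotientGroup.mk_surjective q
        exact Subgroup.mem_bot.2 ((QuotientGroup.eq_one_iff s).2 (hTR ▸ hq))
      omega
    have hNnC : ∀ g ∈ C, ∀ x ∈ N, g * x * g⁻¹ ∈ N := fun g hg => hNn g (hC.le hg)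
    obtain ⟨ξ, hξS, hξθ⟩ := ih _ hClt S C N rfl hNC hNnC hSC hSN hNS
      (hcop.coprime_dvd_right (Dvd.intro _ (Subgroup.relIndex_mul_relIndex N C G hNC hC.le)))
      (hsolv) θ (fun g hg => hθG g (hC.le hg)) hθS
    obtain ⟨f, hf⟩ := (hasCorr_iff hC.le).1 (relative_glauberman P' G N C hP'p
      (fun y hy => hSG y (hP'S hy)) (fun y hy => hSN y (hP'S hy)) hNG hNn hpidx hC)
    set ξ' : Inv P' C := ⟨ξ, fun y hy => hξS y (hP'S hy)⟩ with hξ'
    set χ := f.symm ξ' with hχdef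
    have hm : ∀ φ : Inv P' G, f φ = ξ' ↔ (multNat hC.le φ.1 ξ : ZMod p) ≠ 0 := by
      intro φ
      constructor
      · intro h
        rcases (hf φ ξ').1 h.symm with e | e <;> rw [e] <;> simp
      · intro h
        by_contra hne
        exact h ((hf φ ξ').2 fun e => hne e.symm)
    have hχξ : multNat hC.le χ.1 ξ ≠ 0 := fun h0 =>
      (hm χ).1 (f.apply_symm_apply ξ') (by rw [h0, Nat.cast_zero])
    have hχθ : multNat hNG χ.1 θ ≠ 0 := multNat_trans_ne_zero hNC hC.le χ.1 ξ θ hχξ hξθ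
    refine ⟨χ.1, ?_, hχθ⟩
    letI := CfsgLib.RelGlauberman.irrAction hSG
    -- `T` fixes every `P`-invariant character over `θ`
    have hTfix : ∀ φ : IrrCharacter G, PInv P' G (φ : G → ℂ) → multNat hNG φ θ ≠ 0 →
        T ≤ MulAction.stabilizer S φ := by
      intro φ hφP hφθ
      rw [← hRPT]
      refine sup_le (fun r hr => ?_) (fun y hy => ?_)
      · exact (irrAction_eq_self_iff hSG r φ).2 (hRfix r hr φ hφθ)
      · exact (irrAction_eq_self_iff hSG y φ).2 (hφP _ ⟨y, hy, rfl⟩)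
    rw [pInv_iff_fixed hSG]
    intro s
    have hsθ : multNat hNG (s • χ.1) θ ≠ 0 := by
      rw [← (pInv_iff_fixed hSN θ).1 hθS s]
      rw [show (s • χ.1) = (CfsgLib.RelGlauberman.irrAction hSG).smul s χ.1 from rfl, multNat_smul hSG hSN hNG]
      exact hχθ
    have hsP : PInv P' G ((s • χ.1 : IrrCharacter G) : G → ℂ) := by
      rintro _ ⟨y, hy, rfl⟩ k k' hk
      refine (irrAction_eq_self_iff hSG y _).1 ?_ k k' hk
      show y • (s • χ.1) = s • χ.1
      have ht : s⁻¹ * y * s ∈ T := by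
        simpa using Subgroup.Normal.conj_mem (inferInstance : T.Normal) y (hPT hy) s⁻¹
      have h2 : (s⁻¹ * y * s) • χ.1 = χ.1 := hTfix χ.1 χ.2 hχθ ht
      calc y • (s • χ.1) = s • ((s⁻¹ * y * s) • χ.1) := by
            rw [← mul_smul, ← mul_smul]; congr 1; group
        _ = s • χ.1 := by rw [h2]
    have heq : f ⟨s • χ.1, hsP⟩ = ξ' := by
      rw [hm]
      show (multNat hC.le ((CfsgLib.RelGlauberman.irrAction hSG).smul s χ.1) ξ : ZMod p) ≠ 0
      rw [← (pInv_iff_fixed hSC ξ).1 hξS s, multNat_smul hSG hSC hC.le]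
      exact (hm χ).1 (f.apply_symm_apply ξ')
    exact congrArg Subtype.val (f.injective (heq.trans (f.apply_symm_apply ξ').symm))

/-- Step for an abelian quotient `G ⧸ M`. -/
theorem exists_inv_comm (S G M N : Subgroup Γ) (hMG : M ≤ G) (hNM : N ≤ M) (hNS : N ≤ S)
    (hSG : Normalises S G) (hSM : Normalises S M) (hSN : Normalises S N)
    (hMn : ∀ g ∈ G, ∀ x ∈ M, g * x * g⁻¹ ∈ M) (hcomm : ∀ a ∈ G, ∀ b ∈ G, a * b * a⁻¹ * b⁻¹ ∈ M)
    (hcop : (N.relIndex S).Coprime (M.relIndex G)) (ψ : IrrCharacter M)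
    (hψ : PInv S M (ψ : M → ℂ)) :
    ∃ χ : IrrCharacter G, PInv S G (χ : G → ℂ) ∧ multNat hMG χ ψ ≠ 0 := by
  classical
  set M' := M.subgroupOf G with hM'
  haveI : M'.Normal := ⟨fun x hx g => hMn g g.2 x hx⟩
  haveI : Fintype M' := Fintype.ofFinite _
  set NS := N.subgroupOf S
  haveI : NS.Normal := ⟨fun x hx s => hSN s s.2 x hx⟩
  haveI : Fintype (G ⧸ M') := Fintype.ofFinite _
  let e : M' ≃* M := Subgroup.subgroupOfEquivOfLe hMG
  have hab : ∀ a b : G ⧸ M', a * b = b * a := fun a b => by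
    obtain ⟨a, rfl⟩ := QuotientGroup.mk_surjective a
    obtain ⟨b, rfl⟩ := QuotientGroup.mk_surjective b
    rw [← QuotientGroup.mk_mul, ← QuotientGroup.mk_mul, QuotientGroup.eq]
    show ((a : Γ) * b)⁻¹ * ((b : Γ) * a) ∈ M
    simpa [mul_assoc] using hcomm _ (G.inv_mem b.2) _ (G.inv_mem a.2)
  letI : CommGroup (G ⧸ M') := { (inferInstance : Group (G ⧸ M')) with mul_comm := hab }
  obtain ⟨eq⟩ := CommGroup.monoidHom_mulEquiv_of_hasEnoughRootsOfUnity (G ⧸ M') ℂ
  haveI : Finite (G ⧸ M' →* ℂˣ) := Finite.of_equiv _ eq.toEquiv.symm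
  let inf : (G ⧸ M' →* ℂˣ) →* (G →* ℂˣ) :=
    { toFun := fun l => l.comp (QuotientGroup.mk' M')
      map_one' := rfl
      map_mul' := fun _ _ => rfl }
  letI := CfsgLib.RelGlauberman.irrAction hSG
  have hker : NS ≤ (MulAction.toPermHom S (IrrCharacter G)).ker := fun x hx =>
    Equiv.ext fun φ => (irrAction_eq_self_iff hSG x φ).2 fun k k' hk => by
      rw [show k' = ⟨x, hMG (hNM hx)⟩ * k * (⟨x, hMG (hNM hx)⟩ : G)⁻¹ from Subtype.ext hk]
      exact isClassFunction_of_isIrr φ.2 k ⟨x, hMG (hNM hx)⟩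
  obtain ⟨χ₀, hχ₀⟩ := exists_over G M hMG hMn ψ
  obtain ⟨χ, hχ, hfix⟩ := CfsgLib.Glauberman.exists_fixed_perm
    (QuotientGroup.lift NS (MulAction.toPermHom S (IrrCharacter G)) hker)
    (CfsgLib.Glauberman.linTwist.comp inf)
    (fun s l => by
      obtain ⟨s, rfl⟩ := QuotientGroup.mk_surjective s
      refine ⟨QuotientGroup.lift M' ((inf l).comp (conjAutInv hSG s).toMonoidHom) (fun x hx => ?_),
        Equiv.ext fun φ => Subtype.ext (funext fun g => ?_)⟩
      · show l ((conjAutInv hSG s x : G) : G ⧸ M') = 1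
        rw [(QuotientGroup.eq_one_iff (conjAutInv hSG s x)).2 (show _ ∈ M by
          simpa [conjAutInv] using hSM _ (S.inv_mem s.2) _ hx), map_one]
      · rfl)
    (by rw [Nat.card_congr eq.toEquiv, ← Subgroup.index_eq_card, ← Subgroup.index_eq_card]
        exact hcop)
    (Or.inr inferInstance)
    {φ | multNat hMG φ ψ ≠ 0} ⟨χ₀, hχ₀⟩
    (by
      intro s φ hφ
      obtain ⟨s, rfl⟩ := QuotientGroup.mk_surjective s
      show multNat hMG ((CfsgLib.RelGlauberman.irrAction hSG).smul s φ) ψ ≠ 0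
      rw [← (pInv_iff_fixed hSM ψ).1 hψ s, multNat_smul hSG hSM hMG]
      exact hφ)
    (by
      intro l φ hφ
      show multNat hMG _ ψ ≠ 0
      have hφ := (multNat_ne_zero_iff hMG φ ψ).1 hφ
      rw [multNat_ne_zero_iff]
      intro h0
      refine hφ (Eq.trans ?_ h0)
      congr 1
      funext n
      show (φ : G → ℂ) ⟨n, hMG n.2⟩ =
        (φ : G → ℂ) ⟨n, hMG n.2⟩ * (l ((⟨(n : Γ), hMG n.2⟩ : G) : G ⧸ M') : ℂ)
      rw [(QuotientGroup.eq_one_iff (⟨(n : Γ), hMG n.2⟩ : G)).2 n.2, map_one, Units.val_one,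
        mul_one])
    (fun φ hφ φ' hφ' => by
      have key : ∀ η : IrrCharacter G, multNat hMG η ψ ≠ 0 → Cfsg.classInner
          (fun n : M' => (η : G → ℂ) n) (CfsgLib.Glauberman.irrCongr e ψ : M' → ℂ) ≠ 0 := by
        intro η hη h0
        exact (multNat_ne_zero_iff hMG η ψ).1 hη ((classInner_irrec e
          (fun n : M => (η : G → ℂ) ⟨n, hMG n.2⟩) (ψ : M → ℂ)).symm.trans h0)
      have hne := CfsgLib.Glauberman.classInner_ne_zero_common
        (isCharacter_restrict M' (isCharacter_of_isIrr φ.2))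
        (isCharacter_restrict M' (isCharacter_of_isIrr φ'.2)) _ (key φ hφ) (key φ' hφ')
      rw [← classInner_indFun M' _ (isClassFunction_of_isIrr φ'.2),
        CharactersDeep.Gallagher.indFun_restrict M' φ.2, classInner_sum_left] at hne
      obtain ⟨β, -, hβ⟩ := Finset.exists_ne_zero_of_sum_ne_zero hne
      rw [classInner_smul_left] at hβ
      obtain ⟨f, hf⟩ := exists_hom_of_degree_one (isCharacter_of_isIrr β.2)
        (irr_degree_one_of_comm hab β)
      refine ⟨f, Subtype.ext ?_⟩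
      have heq : CharactersDeep.Gallagher.prodInfl M' (φ : G → ℂ) (β : G ⧸ M' → ℂ) =
          ((CfsgLib.Glauberman.linTwist (inf f) φ : IrrCharacter G) : G → ℂ) := by
        funext g; rw [CharactersDeep.Gallagher.prodInfl, hf]; rfl
      by_contra hne'
      refine hβ ?_
      rw [heq, classInner_isIrr_ne (CfsgLib.Glauberman.linTwist (inf f) φ).2 φ'.2 hne', mul_zero])
  exact ⟨χ, (pInv_iff_fixed hSG χ).2 fun s => hfix (s : S ⧸ NS), hχ⟩

/-- The case of a solvable section `G ⧸ N`. -/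
theorem exists_inv_of_solvable_quotient (n : ℕ) : ∀ (S G N : Subgroup Γ), N.relIndex G = n →
    ∀ (hNG : N ≤ G), (∀ g ∈ G, ∀ x ∈ N, g * x * g⁻¹ ∈ N) → Normalises S G → Normalises S N →
    N ≤ S → (N.relIndex S).Coprime (N.relIndex G) →
    (∀ [(N.subgroupOf G).Normal], Group.IsSolvable (G ⧸ N.subgroupOf G)) →
    ∀ θ : IrrCharacter N, PInv S N (θ : N → ℂ) →
    ∃ χ : IrrCharacter G, PInv S G (χ : G → ℂ) ∧ multNat hNG χ θ ≠ 0 := by
  induction n using Nat.strong_induction_on with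
  | _ n ih =>
    intro S G N hn hNG hNn hSG hSN hNS hcop hsolv θ hθ
    subst hn
    by_cases hab : ⁅G, G⁆ ≤ N
    · exact exists_inv_comm S G N N hNG le_rfl hNS hSG hSN hSN hNn
        (fun a ha b hb => hab (Subgroup.commutator_mem_commutator ha hb)) hcop θ hθ
    set M := ⁅G, G⁆ ⊔ N with hM
    have hcG : ⁅G, G⁆ ≤ G := Subgroup.commutator_le.2 fun a ha b hb =>
      G.mul_mem (G.mul_mem (G.mul_mem ha hb) (G.inv_mem ha)) (G.inv_mem hb)
    have hMG : M ≤ G := sup_le hcG hNG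
    have hNM : N ≤ M := le_sup_right
    have hmap : ∀ y : Γ, (∀ g ∈ G, y * g * y⁻¹ ∈ G) → (∀ g ∈ N, y * g * y⁻¹ ∈ N) →
        ∀ x ∈ M, y * x * y⁻¹ ∈ M := by
      intro y h1 h2 x hx
      have hle : M.map (MulAut.conj y).toMonoidHom ≤ M := by
        rw [hM, Subgroup.map_sup, Subgroup.map_commutator]
        refine sup_le_sup (Subgroup.commutator_mono ?_ ?_) ?_
        · rintro _ ⟨g, hg, rfl⟩; exact h1 g hg
        · rintro _ ⟨g, hg, rfl⟩; exact h1 g hg
        · rintro _ ⟨g, hg, rfl⟩; exact h2 g hg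
      exact hle ⟨x, hx, rfl⟩
    have hMn : ∀ g ∈ G, ∀ x ∈ M, g * x * g⁻¹ ∈ M := fun g hg => hmap g
      (fun a ha => G.mul_mem (G.mul_mem hg ha) (G.inv_mem hg)) (hNn g hg)
    have hSM : Normalises S M := fun s hs => hmap s (hSG s hs) (hSN s hs)
    haveI : (N.subgroupOf G).Normal := ⟨fun x hx g => hNn g g.2 x hx⟩
    haveI hsolv' : Group.IsSolvable (G ⧸ N.subgroupOf G) := hsolv
    have hMne : M ≠ G := fun h => by
      haveI : Nontrivial (G ⧸ N.subgroupOf G) := QuotientGroup.nontrivial_iff.2 fun hN' =>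
        hab (hcG.trans (Subgroup.subgroupOf_eq_top.1 hN'))
      refine (Group.IsSolvable.commutator_lt_top_of_nontrivial (G ⧸ N.subgroupOf G)).ne ?_
      have h0 : (⊤ : Subgroup G) = ⁅(⊤ : Subgroup G), ⊤⁆ ⊔ N.subgroupOf G := by
        apply Subgroup.map_injective G.subtype_injective
        rw [Subgroup.map_sup, Subgroup.map_commutator, ← MonoidHom.range_eq_map, Subgroup.range_subtype,
          Subgroup.subgroupOf_map_subtype, inf_eq_left.2 hNG, ← hM, h]
      have h1 := congrArg (Subgroup.map (QuotientGroup.mk' (N.subgroupOf G))) h0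
      rw [Subgroup.map_sup, QuotientGroup.map_mk'_self, sup_bot_eq,
        Subgroup.map_commutator, Subgroup.map_top_of_surjective _ (QuotientGroup.mk'_surjective _)]
        at h1
      exact h1.symm
    have hlt : N.relIndex M < N.relIndex G := by
      rw [← Subgroup.relIndex_mul_relIndex N M G hNM hMG]
      refine lt_mul_of_one_lt_right (Nat.pos_of_ne_zero Subgroup.index_ne_zero_of_finite) ?_
      have h0 : M.relIndex G ≠ 0 := Subgroup.index_ne_zero_of_finite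
      have h1 : M.relIndex G ≠ 1 := fun h1 =>
        hMne (le_antisymm hMG (Subgroup.relIndex_eq_one.1 h1))
      omega
    have hmul := Subgroup.relIndex_mul_relIndex N M G hNM hMG
    obtain ⟨ψ, hψ, hψθ⟩ := ih _ hlt S M N rfl hNM (fun g hg => hNn g (hMG hg)) hSM hSN hNS
      (hcop.coprime_dvd_right (Dvd.intro _ hmul))
      (fun {_} => Group.isSolvable_of_isSolvable_injective
        (f := QuotientGroup.map (N.subgroupOf M) (N.subgroupOf G) (Subgroup.inclusion hMG)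
          fun x hx => hx) (by
          rw [← MonoidHom.ker_eq_bot_iff, eq_bot_iff]
          intro q hq
          obtain ⟨a, rfl⟩ := QuotientGroup.mk_surjective q
          have hq : ((Subgroup.inclusion hMG a : G) : G ⧸ N.subgroupOf G) = 1 := hq
          rw [QuotientGroup.eq_one_iff] at hq
          exact Subgroup.mem_bot.2 ((QuotientGroup.eq_one_iff a).2 hq))) θ hθ
    obtain ⟨χ, hχ, hχψ⟩ := exists_inv_comm S G M N hMG hNM hNS hSG hSM hSN hMn
      (fun a ha b hb => (le_sup_left : ⁅G, G⁆ ≤ M) (Subgroup.commutator_mem_commutator ha hb))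
      (hcop.coprime_dvd_right (Dvd.intro_left _ hmul)) ψ hψ
    exact ⟨χ, hχ, multNat_trans_ne_zero hNM hMG χ ψ θ hχψ hψθ⟩

end CfsgLib.Glauberman.RelativeInvariant
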