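import Cfsg.Agent.GaloisAverage.Basic
import Mathlib.RingTheory.Polynomial.Cyclotomic.Roots
import Mathlib.RingTheory.RootsOfUnity.Complex
import Mathlib.Algebra.CharP.Basic

/-!
# Integer values of sums of roots of unity

* an integer polynomial constant on the primitive `n`-th roots of unity takes an integer value there;
* `(∑ z)^p ≡ ∑ z^p (mod p)` and, for `p = 2`, a congruence modulo `4` one step further.
-/

set_option autoImplicit false
set_option linter.style.haveILetI false

namespace CfsgLib.Glauberman.RootSums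

open Polynomial

/-- A sum of powers constant over all primitive roots is an integer. -/
theorem exists_int_of_const {n : ℕ} (hn : 0 < n) (P : ℤ[X]) {c : ℂ}
    (h : ∀ w : ℂ, IsPrimitiveRoot w n → aeval w P = c) : ∃ z : ℤ, c = z := by
  classical
  set Q := P %ₘ cyclotomic n ℤ with hQ
  have hQv : ∀ w : ℂ, IsPrimitiveRoot w n → aeval w Q = c := fun w hw => by
    have h0 : aeval w (cyclotomic n ℤ) = 0 := by
      rw [aeval_def, eval₂_eq_eval_map, map_cyclotomic]
      exact hw.isRoot_cyclotomic hn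
    rw [hQ, aeval_modByMonic_eq_self_of_root h0]
    exact h w hw
  have hdeg : Q.natDegree < Nat.totient n := by
    have h1 := natDegree_modByMonic_lt P (cyclotomic.monic n ℤ) (fun h1 => by
      have := congrArg natDegree h1
      rw [natDegree_cyclotomic, natDegree_one] at this
      exact (Nat.totient_pos.2 hn).ne' this)
    rwa [natDegree_cyclotomic] at h1
  set R : ℂ[X] := Q.map (Int.castRingHom ℂ) - C c with hR
  have hRdeg : R.natDegree < Nat.totient n := by
    refine lt_of_le_of_lt (natDegree_sub_le _ _) ?_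
    rw [natDegree_C, max_eq_left (Nat.zero_le _)]
    exact lt_of_le_of_lt natDegree_map_le hdeg
  have hR0 : R = 0 := by
    refine eq_zero_of_natDegree_lt_card_of_eval_eq_zero' R (primitiveRoots n ℂ) (fun w hw => ?_) ?_
    · rw [hR, eval_sub, eval_C, eval_map, sub_eq_zero]
      exact hQv w ((mem_primitiveRoots hn).1 hw)
    · rwa [Complex.card_primitiveRoots]
  refine ⟨Q.coeff 0, ?_⟩
  have := congrArg (fun p : ℂ[X] => p.coeff 0) hR0
  simp only [hR, coeff_sub, coeff_map, coeff_C_zero, coeff_zero, sub_eq_zero] at this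
  rw [← this]
  rfl

/-- A rational integer divisible by `m` in the algebraic integers is divisible by `m`. -/
theorem dvd_of_mul_isIntegral {a m : ℤ} (hm : m ≠ 0) {r : ℂ} (hr : IsIntegral ℤ r)
    (h : (a : ℂ) = m * r) : m ∣ a := by
  have hm' : (m : ℂ) ≠ 0 := Int.cast_ne_zero.2 hm
  have hq : r = (((a : ℚ) / m : ℚ) : ℂ) := by
    push_cast
    rw [h, mul_div_cancel_left₀ _ hm']
  obtain ⟨z, hz⟩ := CfsgLib.GaloisAverage.exists_int_of_isIntegral_ratCast (hq ▸ hr)
  rw [← hq] at hz
  exact ⟨z, by rw [hz] at h; exact_mod_cast h⟩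

variable {ι : Type*} (s : Finset ι) (z : ι → ℂ) (hz : ∀ i, IsIntegral ℤ (z i))

include hz in
/-- The Frobenius congruence. -/
theorem exists_sum_pow_prime {p : ℕ} (hp : p.Prime) :
    ∃ r : ℂ, IsIntegral ℤ r ∧ (∑ i ∈ s, z i) ^ p = ∑ i ∈ s, z i ^ p + (p : ℂ) * r := by
  classical
  induction s using Finset.induction_on with
  | empty => exact ⟨0, isIntegral_zero, by simp [hp.ne_zero]⟩
  | insert a s ha ih =>
    obtain ⟨r, hr, h⟩ := ih
    let A := integralClosure ℤ ℂ
    let x : A := ⟨z a, hz a⟩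
    let y : A := ⟨∑ i ∈ s, z i, IsIntegral.sum _ fun i _ => hz i⟩
    obtain ⟨t, ht⟩ : ∃ t : A, (x + y) ^ p = x ^ p + y ^ p + (p : A) * t := by
      obtain ⟨t, ht⟩ := exists_add_pow_prime_eq hp x y
      exact ⟨x * y * t, by rw [ht]; ring⟩
    have ht' := congrArg (Subtype.val : A → ℂ) ht
    push_cast at ht'
    refine ⟨r + (t : ℂ), hr.add t.2, ?_⟩
    rw [Finset.sum_insert ha, Finset.sum_insert ha]
    simp only [x, y] at ht'
    rw [ht', h]
    ring

include hz in
/-- The second order congruence at `2`. -/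
theorem exists_sum_pow_two : ∃ e r : ℂ, IsIntegral ℤ e ∧ IsIntegral ℤ r ∧
    (∑ i ∈ s, z i) ^ 2 - ∑ i ∈ s, z i ^ 2 = 2 * e ∧
      (∑ i ∈ s, z i ^ 2) ^ 2 - ∑ i ∈ s, z i ^ 4 = 2 * (e ^ 2 - 2 * r) := by
  classical
  induction s using Finset.induction_on with
  | empty => exact ⟨0, 0, isIntegral_zero, isIntegral_zero, by simp, by simp⟩
  | insert a s ha ih =>
    obtain ⟨e, r, he, hr, h1, h2⟩ := ih
    have hf : IsIntegral ℤ (∑ i ∈ s, z i) := IsIntegral.sum _ fun i _ => hz i
    refine ⟨e + z a * ∑ i ∈ s, z i, r + z a * e * (∑ i ∈ s, z i) + z a ^ 2 * e,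
      he.add ((hz a).mul hf), (hr.add (((hz a).mul he).mul hf)).add (((hz a).pow 2).mul he),
      ?_, ?_⟩
    · rw [Finset.sum_insert ha, Finset.sum_insert ha]
      linear_combination h1
    · rw [Finset.sum_insert ha, Finset.sum_insert ha]
      linear_combination h2 - 2 * (z a) ^ 2 * h1

include hz in
/-- `∑ z = ±1` and `∑ z² = ±1` force `∑ z⁴ = ∑ z²`, granted that it is `±1`. -/
theorem sum_four_eq_sum_two {f g k : ℤ} (hf : f = 1 ∨ f = -1) (hg : g = 1 ∨ g = -1)
    (hk : k = 1 ∨ k = -1) (h₁ : ∑ i ∈ s, z i = f) (h₂ : ∑ i ∈ s, z i ^ 2 = g)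
    (h₄ : ∑ i ∈ s, z i ^ 4 = k) : k = g := by
  obtain ⟨e, r, he, hr, h1, h2⟩ := exists_sum_pow_two s z hz
  rw [h₁, h₂] at h1
  rw [h₂, h₄] at h2
  have hee : e = ((f * f - g : ℤ) : ℂ) / 2 := by push_cast; linear_combination -h1 / 2
  have h4 : ((k - (g * g - (if g = 1 then 0 else 2)) : ℤ) : ℂ) = ((4 : ℤ) : ℂ) * r := by
    rcases hf with rfl | rfl <;> rcases hg with rfl | rfl <;> norm_num at hee ⊢ <;>
      (subst hee; push_cast at h2 ⊢; linear_combination -h2)
  have := dvd_of_mul_isIntegral (by norm_num) hr h4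
  rcases hg with rfl | rfl <;> rcases hk with rfl | rfl <;> omega

include hz in
/-- For `p` prime, `∑ zᵖ` is congruent to `∑ z` modulo `p` when both are integers. -/
theorem prime_dvd_sub {p : ℕ} (hp : p.Prime) {f g : ℤ} (h₁ : ∑ i ∈ s, z i = f)
    (h₂ : ∑ i ∈ s, z i ^ p = g) : (p : ℤ) ∣ g - f := by
  haveI : Fact p.Prime := ⟨hp⟩
  obtain ⟨r, hr, h⟩ := exists_sum_pow_prime s z hz hp
  rw [h₁, h₂] at h
  have h1 : (p : ℤ) ∣ f ^ p - g := dvd_of_mul_isIntegral (by exact_mod_cast hp.ne_zero) hr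
    (by push_cast; linear_combination h)
  rw [← ZMod.intCast_zmod_eq_zero_iff_dvd] at h1 ⊢
  push_cast at h1 ⊢
  rw [ZMod.pow_card] at h1
  linear_combination -h1

end CfsgLib.Glauberman.RootSums
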